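import Groth.Agent.Duality.ShriekBridge.Curve
import Groth.Agent.Duality.SupportVanish
import Groth.Agent.Duality.RDualPairs
import Groth.Agent.Lichtenbaum.Nonvanish
import Groth.Agent.CohTwo.PushClosed
import Groth.Agent.CohTwo.AdicVanishing
import Groth.Agent.CohTwo.CohInduction
import Groth.Agent.CohC3.LimitSys
import Groth.Agent.Pi1FEt.PushBij
import Groth.Agent.EulerDeg.FiniteSupport

/-!
# The dualizing module of a connected curve is nowhere zero
-/

set_option autoImplicit false
set_option backward.isDefEq.respectTransparency false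
set_option linter.style.haveILetI false
set_option maxHeartbeats 1000000
set_option synthInstance.maxHeartbeats 400000

universe u

open CategoryTheory CategoryTheory.Limits AlgebraicGeometry TopologicalSpace Opposite

noncomputable section

namespace Groth.Duality.ShriekBridge

/-- Vectors are detected by functionals. -/
theorem exists_dual_ne {K : Type u} {V : Type*} [Field K] [AddCommGroup V] [Module K V] {v : V}
    (hv : v ≠ 0) : ∃ l : V →ₗ[K] K, l v ≠ 0 :=
  Module.Projective.exists_dual_ne_zero K hv

variable {k : Type u} [Field k] {X : Scheme.{u}} [X.Over (Spec (CommRingCat.of k))]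
  [IsProper (X ↘ Spec (CommRingCat.of k))]

/-- A scheme with `H⁰(O) = k` has no nontrivial clopen subsets. -/
theorem eq_empty_or_univ_of_isClopen
    (h0 : Module.finrank k (Coh.HH X (Coh.structureModule X) 0) = 1) {C : Set X} (hC : IsClopen C) :
    C = ∅ ∨ C = Set.univ := by
  rcases isEmpty_or_nonempty X with hX | hX
  · exact Or.inl (Set.eq_empty_of_isEmpty C)
  obtain ⟨e, he, hD⟩ := Pi1FEt.exists_idem_of_clopen (⊤ : X.Opens) C hC
  letI := EulerDeg.secModule k (Coh.structureModule X) (⊤ : X.Opens)
  have h1 : Module.finrank k Γ(Coh.structureModule X, (⊤ : X.Opens)) = 1 :=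
    (EulerDeg.h0Equiv k (Coh.structureModule X)).finrank_eq.symm.trans h0
  haveI : Nonempty (⊤ : X.Opens) := ⟨⟨hX.some, trivial⟩⟩
  have hne : (1 : Γ(X, ⊤)) ≠ 0 := one_ne_zero
  obtain ⟨c, hc⟩ := (finrank_eq_one_iff_of_nonzero' (K := k)
    (show Γ(Coh.structureModule X, (⊤ : X.Opens)) from (1 : Γ(X, ⊤))) hne).1 h1
    (show Γ(Coh.structureModule X, (⊤ : X.Opens)) from e)
  have hc' : EulerDeg.toSec k (⊤ : X.Opens) c * (1 : Γ(X, ⊤)) = e := hc
  rw [mul_one] at hc'
  rcases eq_or_ne c 0 with rfl | hc0
  · left
    rw [map_zero] at hc'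
    rw [← hc', Scheme.basicOpen_zero] at hD
    simpa using hD.symm
  · right
    have hu : IsUnit e := hc' ▸ (isUnit_iff_ne_zero.2 hc0).map _
    rw [Scheme.basicOpen_of_isUnit X hu] at hD
    simpa using hD.symm

omit [X.Over (Spec (CommRingCat.of k))] [IsProper (X ↘ Spec (CommRingCat.of k))] in
/-- In a connected positive-dimensional Noetherian scheme every point specializes a non-closed one. -/
theorem exists_specializes_not_isClosed [AlgebraicGeometry.IsNoetherian X]
    (hconn : ∀ C : Set X, IsClopen C → C = ∅ ∨ C = Set.univ) (hdim : topologicalKrullDim X = 1)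
    (x : X) : ∃ η : X, η ⤳ x ∧ ¬ IsClosed ({η} : Set X) := by
  obtain ⟨η, hη⟩ := QuasiSober.sober (isIrreducible_irreducibleComponent (x := x))
    isClosed_irreducibleComponent
  refine ⟨η, hη.specializes mem_irreducibleComponent, fun hcl => ?_⟩
  have hTη : irreducibleComponent x = {η} := hη.def.symm.trans hcl.closure_eq
  have hxη : x = η := by
    have := mem_irreducibleComponent (x := x)
    rwa [hTη] at this
  subst hxη
  let T := irreducibleComponent x
  have hTcomp : T ∈ irreducibleComponents X := irreducibleComponent_mem_irreducibleComponents x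
  have hopen : IsOpen ({x} : Set X) := by
    have hfin : (irreducibleComponents X).Finite := NoetherianSpace.finite_irreducibleComponents
    have hcl' : IsClosed (⋃₀ (irreducibleComponents X \ {T})) := by
      rw [Set.sUnion_eq_biUnion]
      exact hfin.sdiff.isClosed_biUnion fun S hS => isClosed_of_mem_irreducibleComponents S hS.1
    have : ({x} : Set X) = (⋃₀ (irreducibleComponents X \ {T}))ᶜ := by
      ext y
      simp only [Set.mem_singleton_iff, Set.mem_compl_iff, Set.mem_sUnion, not_exists, not_and]
      constructor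
      · rintro rfl S hS hyS
        refine hS.2 (Set.mem_singleton_iff.2 (hTcomp.eq_of_le hS.1.1 ?_).symm)
        change irreducibleComponent y ⊆ S
        rw [hTη]
        exact Set.singleton_subset_iff.2 hyS
      · intro hy
        by_contra hyx
        refine hy (irreducibleComponent y)
          ⟨irreducibleComponent_mem_irreducibleComponents y, fun he => hyx ?_⟩ mem_irreducibleComponent
        have := mem_irreducibleComponent (x := y)
        rw [Set.mem_singleton_iff.1 he] at this
        change y ∈ irreducibleComponent x at this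
        rw [hTη] at this
        exact this
    rw [this]
    exact hcl'.isOpen_compl
  rcases hconn {x} ⟨hcl, hopen⟩ with h | h
  · exact Set.singleton_ne_empty x h
  · haveI : Subsingleton X := ⟨fun a b => by
      have ha : a ∈ ({x} : Set X) := h ▸ Set.mem_univ a
      have hb : b ∈ ({x} : Set X) := h ▸ Set.mem_univ b
      exact (Set.mem_singleton_iff.1 ha).trans (Set.mem_singleton_iff.1 hb).symm⟩
    have := hdim ▸ topologicalKrullDim_zero_of_discreteTopology (X := X)
    exact absurd this (not_le.2 zero_lt_one)

/-- The dualizing module is nonzero at the specializations of non-closed points. -/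
theorem nontrivial_stalk_of_isRDualOver (hdim : topologicalKrullDim X ≤ 1) {ω : X.Modules}
    {tr : Coh.HH X ω 1 →ₗ[k] k} (htr : Canon.IsRDualOver k X 1 ω tr) {η x : X} (hx : η ⤳ x)
    (hη : ¬ IsClosed ({η} : Set X)) : x ∈ CohB1.support ω := by
  let s := X ↘ Spec (CommRingCat.of k)
  haveI : AlgebraicGeometry.IsNoetherian X := Lichtenbaum.isNoetherian_of_field s
  let Y : Closeds X := ⟨closure {η}, isClosed_closure⟩
  let i := (Scheme.IdealSheafData.vanishingIdeal Y).subschemeι
  haveI : IsIntegral (Scheme.IdealSheafData.vanishingIdeal Y).subscheme :=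
    CohTwo.isIntegral_closure_subscheme (ξ := η) (Y := Y) rfl
  have hr : Set.range i = closure {η} := Groth.PropsBasic2.range_vanishingIdeal_subschemeι Y
  have hgen := CohTwo.apply_genericPoint_eq i hr
  haveI : AlgebraicGeometry.IsNoetherian (Scheme.IdealSheafData.vanishingIdeal Y).subscheme :=
    Lichtenbaum.isNoetherian_of_field (i ≫ s)
  have hdimZ : topologicalKrullDim (Scheme.IdealSheafData.vanishingIdeal Y).subscheme = ((1 : ℕ) : WithBot ℕ∞) := by
    refine le_antisymm (i.isEmbedding.isInducing.topologicalKrullDim_le.trans hdim) ?_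
    obtain ⟨z, -, hz⟩ := (isClosed_univ (X := (Scheme.IdealSheafData.vanishingIdeal Y).subscheme)).exists_closed_singleton
      Set.univ_nonempty
    have hzg : z ≠ genericPoint (Scheme.IdealSheafData.vanishingIdeal Y).subscheme := fun he => hη (by
      rw [← hgen, ← he, ← Set.image_singleton]
      exact i.isClosedMap _ hz)
    refine Order.one_le_krullDim_iff.2 ⟨⟨{z}, isIrreducible_singleton, hz⟩,
      ⟨Set.univ, IrreducibleSpace.isIrreducible_univ _, isClosed_univ⟩,
      lt_of_le_not_ge (Set.subset_univ _) fun hle => hzg ?_⟩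
    exact (Set.mem_singleton_iff.1 (hle (Set.mem_univ _))).symm
  obtain ⟨G, hG, hne⟩ := Lichtenbaum.exists_coh_nontrivial_top (k := k) (i ≫ s)
    (𝟙 (Scheme.IdealSheafData.vanishingIdeal Y).subscheme) 1 hdimZ
    (by rw [Category.id_comp]; infer_instance)
  let F := (Scheme.Modules.pushforward i).obj G
  have hF : Coh.IsCoh F := Inter.isCoh_push_proper i hG
  have hF1 : ¬ Subsingleton (Coh.HH X F 1) := fun h => by
    obtain ⟨e⟩ := CohC3.nonempty_linearEquiv_push_closed i s 1 G
    haveI : Subsingleton (CohFin.HA s F 1) := h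
    exact hne (e.symm.toEquiv.subsingleton :)
  obtain ⟨φ, hφ⟩ : ∃ φ : F ⟶ ω, Canon.dualityMap k X 1 ω tr F φ ≠ 0 := by
    by_contra hc
    refine hF1 ((subsingleton_iff_forall_eq 0).2 fun y => by_contra fun hy => ?_)
    obtain ⟨l, hl⟩ := exists_dual_ne (K := k) hy
    obtain ⟨φ, hφ⟩ := (htr.2 F hF.1).2 l
    refine hl ?_
    rw [← hφ, not_not.1 (not_exists.1 hc φ)]
    rfl
  haveI := hF.1
  haveI : ω.IsQuasicoherent := htr.1
  let I := Abelian.image φ
  have hI : Coh.IsCoh I := ⟨QCohMod.isQCoh_image φ, QCohMod.isFT_of_epi (Abelian.factorThruImage φ) hF.2⟩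
  have hIZ : CohB1.support I ⊆ closure {η} :=
    (CohTwo.support_subset_of_epi (Abelian.factorThruImage φ)).trans
      (hr ▸ CohTwo.support_push_subset i G)
  have hIc := Groth.CohC3.isClosed_support_of_isCoh I hI
  suffices hηI : η ∈ CohB1.support I from
    CohTwo.support_subset_of_mono (Abelian.image.ι φ) (hx.mem_closed hIc hηI)
  by_contra hηI
  refine hφ (LinearMap.ext fun y => ?_)
  haveI : Subsingleton (Coh.HH X I 1) := by
    refine EulerDeg.subsingleton_HH_succ_of_supportedAtClosed (M := I) (fun y hy => ?_) 0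
    by_contra hyc
    have h1 : η ⤳ y := specializes_iff_mem_closure.2 (hIZ hy)
    haveI : QuasiSober ↑X.toTopCat := inferInstanceAs (QuasiSober X)
    haveI : T0Space ↑X.toTopCat := inferInstanceAs (T0Space X)
    exact hηI (EulerDeg.eq_of_specializes_of_not_isClosed (X := X.toTopCat) hdim hyc h1 ▸ hy)
  rw [← Abelian.image.fac φ, RDual.dualityMap_comp]
  change tr.comp (Canon.HHlin k (Abelian.image.ι φ) 1)
    (Canon.HHlin k (Abelian.factorThruImage φ) 1 y) = 0
  rw [Subsingleton.elim (Canon.HHlin k (Abelian.factorThruImage φ) 1 y) 0, map_zero]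

end Groth.Duality.ShriekBridge
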