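import Groth.Agent.Misc4.AbRlimEv
import Groth.Agent.Misc4.QCohTildeD
import Groth.Agent.CohTwo.ExtStructure
import Groth.Agent.QCohMod.Category
import Groth.Agent.PicAux.Sections
import Groth.Agent.PicAux.QCoh
import Groth.Prelude.Def_KLin

/-!
# Functionals on bounded complexes with quasi-coherent cohomology over an affine scheme

For `K` in degrees `≤ 0`, bounded below, with quasi-coherent cohomology on an affine scheme,
`Hom(K, O)` is the module of functionals on `Hom(O, K)`.
-/

set_option autoImplicit false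
set_option backward.isDefEq.respectTransparency false
set_option linter.style.haveILetI false
set_option maxHeartbeats 1000000
set_option synthInstance.maxHeartbeats 400000

universe w v u

open CategoryTheory CategoryTheory.Limits Opposite

noncomputable section

namespace Groth.Duality.ShriekBridge

open Groth.Misc4.DerivedLift (S0 ev η)
open Groth.Misc4.AbRlimEv (S1 ev1)
open Pretriangulated DerivedCategory

section Abelian

variable {C : Type u} [Category.{v} C] [Abelian C] [HasDerivedCategory.{w} C]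

/-- The cohomology class in degree zero of a morphism to an object in degree zero. -/
def ve {K : DerivedCategory C} {N : C} (ψ : K ⟶ S1.obj N) : (homologyFunctor C 0).obj K ⟶ N :=
  (homologyFunctor C 0).map ψ ≫ inv (η N)

theorem ve_comp {K L : DerivedCategory C} {N : C} (p : K ⟶ L) (ψ : L ⟶ S1.obj N) :
    ve (p ≫ ψ) = (homologyFunctor C 0).map p ≫ ve ψ := by
  simp [ve]

theorem ve_map {M N : C} (q : M ⟶ N) : η M ≫ ve (S1.map q) = q := by
  have h : ev1 (S1.map q ≫ 𝟙 (S1.obj N)) = q ≫ η N := by
    rw [Misc4.AbRlimEv.ev1_map]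
    simp [ev1, ev]
  rw [Category.comp_id] at h
  rw [ve, ← Category.assoc, IsIso.comp_inv_eq]
  exact h

theorem ev1_ve {M N : C} {K : DerivedCategory C} (ξ : S1.obj M ⟶ K) (ψ : K ⟶ S1.obj N) :
    ev1 (ξ ≫ ψ) ≫ inv (η N) = ev1 ξ ≫ ve ψ := by
  rw [Misc4.AbRlimEv.ev1_comp, ve, Category.assoc]

theorem bijective_ve_single (M N : C) :
    Function.Bijective (ve : (S1.obj M ⟶ S1.obj N) → _) := by
  have hS : Function.Bijective (S1.map : (M ⟶ N) → (S1.obj M ⟶ S1.obj N)) :=
    (Functor.FullyFaithful.ofFullyFaithful (DerivedCategory.singleFunctor C 0)).map_bijective M N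
  refine ⟨fun a b hab => ?_, fun s => ⟨S1.map (η M ≫ s), ?_⟩⟩
  · obtain ⟨p, rfl⟩ := hS.2 a
    obtain ⟨q, rfl⟩ := hS.2 b
    rw [← ve_map p, ← ve_map q]
    exact congrArg (fun t => S1.map (η M ≫ t)) hab
  · exact (cancel_epi (η M)).1 (ve_map _)

/-- Morphisms from an object in degrees `≤ 0` to an object in degree zero. -/
theorem bijective_ve (K : DerivedCategory C) [K.IsLE 0] (N : C) :
    Function.Bijective (ve : (K ⟶ S1.obj N) → _) := by
  obtain ⟨U, V, hU, hV, i, p, δ, hT⟩ := TStructure.t.exists_triangle K (-1) 0 (by lia)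
  haveI : U.IsLE (-1) := ⟨hU⟩
  haveI : V.IsGE 0 := ⟨hV⟩
  let T := Triangle.mk i p δ
  have hN : (S1.obj N).IsGE 0 := inferInstanceAs (((singleFunctor C 0).obj N).IsGE 0)
  have hb : Function.Bijective fun g : V ⟶ S1.obj N => p ≫ g := by
    refine ⟨fun a b hab => ?_, fun f => ?_⟩
    · obtain ⟨g, hg⟩ := Triangle.yoneda_exact₃ T hT (a - b)
        (by change p ≫ (a - b) = 0; rw [Preadditive.comp_sub]; exact sub_eq_zero.2 hab)
      haveI : (U⟦(1 : ℤ)⟧).IsLE (-2) := TStructure.t.isLE_shift U (-1) 1 (-2) (by lia)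
      have : g = 0 := TStructure.t.zero_of_isLE_of_isGE g (-2) 0 (by lia) ‹_› hN
      exact sub_eq_zero.1 (hg.trans (by rw [this]; exact comp_zero))
    · obtain ⟨g, hg⟩ := Triangle.yoneda_exact₂ T hT f
        (TStructure.t.zero_of_isLE_of_isGE _ (-1) 0 (by lia) ‹U.IsLE (-1)› hN)
      exact ⟨g, hg.symm⟩
  haveI : IsIso ((homologyFunctor C 0).map p) := by
    have : Epi ((homologyFunctor C 0).map p) :=
      (HomologySequence.epi_homologyMap_mor₂_iff T hT 0 1 rfl).2
        ((U.isZero_of_isLE (-1) 1 (by lia)).eq_of_tgt _ _)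
    have : Mono ((homologyFunctor C 0).map p) :=
      (HomologySequence.mono_homologyMap_mor₂_iff T hT 0).2
        ((U.isZero_of_isLE (-1) 0 (by lia)).eq_of_src _ _)
    exact isIso_of_mono_of_epi _
  haveI : V.IsLE 0 := (isLE_iff V 0).2 fun j hj =>
    (HomologySequence.exact₃ T hT j (j + 1) rfl).isZero_of_both_zeros
      ((K.isZero_of_isLE 0 j hj).eq_of_src _ _)
      ((U.isZero_of_isLE (-1) (j + 1) (by lia)).eq_of_tgt _ _)
  obtain ⟨F, ⟨e⟩⟩ := exists_iso_singleFunctor_obj_of_isGE_of_isLE V 0
  let e' : V ≅ S1.obj F := e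
  have hV' : Function.Bijective (ve : (V ⟶ S1.obj N) → _) := by
    have h' : (ve : (V ⟶ S1.obj N) → _) =
        (fun s => (homologyFunctor C 0).map e'.hom ≫ s) ∘ ve ∘ (fun f => e'.inv ≫ f) := by
      funext f
      simp [← ve_comp]
    rw [h']
    exact ((asIso ((homologyFunctor C 0).map e'.hom)).symm.homFromEquiv.bijective).comp
      ((bijective_ve_single F N).comp e'.homFromEquiv.bijective)
  refine (Function.Bijective.of_comp_iff _ hb).1 ?_
  have h' : (ve : (K ⟶ S1.obj N) → _) ∘ (fun g => p ≫ g) =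
      (fun s => (homologyFunctor C 0).map p ≫ s) ∘ ve := funext fun g => ve_comp p g
  rw [h']
  exact ((asIso ((homologyFunctor C 0).map p)).symm.homFromEquiv.bijective).comp hV'

end Abelian

section Affine

open AlgebraicGeometry

attribute [local instance] HasDerivedCategory.standard

variable {R : CommRingCat.{u}}

/-- Functions acting on maps out of `O`. -/
theorem homOfSection_smul {X : Scheme.{u}} {M : X.Modules} (r : Coh.Γtop X) (m : Γ(M, ⊤)) :
    PicAux.homOfSection (show Γ(M, ⊤) from (show Γ(X, ⊤) from r) • m) =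
      Formal.smulModΓ (Coh.structureModule X) r ≫ PicAux.homOfSection m := by
  refine PicAux.hom_structure_ext ?_
  rw [PicAux.homOfSection_one, ← KLin.comp_smulModΓ, Scheme.Modules.Hom.comp_app]
  refine Eq.symm ((congrArg ((Formal.smulModΓ M r).app ⊤) (PicAux.homOfSection_one m)).trans ?_)
  rw [KLin.smulModΓ_app_apply]
  exact congrArg (· • m) (congr($(X.presheaf.map_id _) r))

/-- Functionals on the sections of a quasi-coherent module over an affine scheme. -/
theorem existsUnique_hom (G : (Spec R).Modules) [G.IsQuasicoherent]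
    (lam : (Coh.structureModule (Spec R) ⟶ G) →+ End (Coh.structureModule (Spec R)))
    (hlam : ∀ (r : Coh.Γtop (Spec R)) (s : Coh.structureModule (Spec R) ⟶ G),
      lam (Formal.smulModΓ _ r ≫ s) = Formal.smulModΓ _ r ≫ lam s) :
    ∃! v : G ⟶ Coh.structureModule (Spec R), ∀ s, s ≫ v = lam s := by
  let X := Spec R
  let one : Γ(Coh.structureModule X, ⊤) := PicAux.oneSec X ⊤
  let l : Γ(G, ⊤) → Γ(Coh.structureModule X, ⊤) := fun m => (lam (PicAux.homOfSection m)).app ⊤ one
  have hadd : ∀ m m', l (m + m') = l m + l m' := fun m m' => by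
    have e : PicAux.homOfSection (m + m') = PicAux.homOfSection m + PicAux.homOfSection m' := by
      refine PicAux.hom_structure_ext ?_
      rw [PicAux.homOfSection_one, Scheme.Modules.Hom.add_app]
      exact (congrArg₂ (· + ·) (PicAux.homOfSection_one m) (PicAux.homOfSection_one m')).symm
    simp only [l, e, map_add]
    rfl
  have hsmul : ∀ (r : Γ(X, ⊤)) (m : Γ(G, ⊤)), l (r • m) = r • l m := fun r m => by
    simp only [l]
    rw [homOfSection_smul (X := X) r m, hlam r (PicAux.homOfSection m), ← KLin.comp_smulModΓ,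
      Scheme.Modules.Hom.comp_app]
    refine (KLin.smulModΓ_app_apply _ (show Coh.Γtop X from r) ⊤ _).trans ?_
    exact congrArg (· • _) (congr($(X.presheaf.map_id _) r))
  haveI hG : IsIso G.fromTildeΓ := inferInstance
  haveI hO : (Coh.structureModule X).IsQuasicoherent := Groth.PicAux.isQCoh_structureModule X
  haveI : IsIso (Coh.structureModule X).fromTildeΓ := inferInstance
  let ψ : (moduleSpecΓFunctor (R := R)).obj G ⟶
      (moduleSpecΓFunctor (R := R)).obj (Coh.structureModule X) :=
    ModuleCat.ofHom (X := ((moduleSpecΓFunctor (R := R)).obj G))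
      (Y := ((moduleSpecΓFunctor (R := R)).obj (Coh.structureModule X)))
      ({ toFun := l
         map_add' := hadd
         map_smul' := fun a m => hsmul _ m } :
        ((moduleSpecΓFunctor (R := R)).obj G) →ₗ[R]
          ((moduleSpecΓFunctor (R := R)).obj (Coh.structureModule X)))
  let v : G ⟶ Coh.structureModule X :=
    inv G.fromTildeΓ ≫ (tilde.functor R).map ψ ≫ (Coh.structureModule X).fromTildeΓ
  have hv : (moduleSpecΓFunctor (R := R)).map v = ψ := by
    let adj := tilde.adjunction (R := R)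
    have h1 : (tilde.functor R).map ((moduleSpecΓFunctor (R := R)).map v) ≫
        (Coh.structureModule X).fromTildeΓ =
        (tilde.functor R).map ψ ≫ (Coh.structureModule X).fromTildeΓ :=
      (adj.counit.naturality v).trans (IsIso.hom_inv_id_assoc G.fromTildeΓ _)
    exact (adj.homEquiv _ (Coh.structureModule X)).symm.injective
      (by rw [Adjunction.homEquiv_counit, Adjunction.homEquiv_counit]; exact h1)
  refine ⟨v, fun s => PicAux.hom_structure_ext ?_, fun w hw => ?_⟩
  · have hs : s = PicAux.homOfSection (s.app ⊤ one) :=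
      PicAux.hom_structure_ext (PicAux.homOfSection_one _).symm
    rw [Scheme.Modules.Hom.comp_app]
    refine (congr($(hv) (s.app ⊤ one))).trans ?_
    change (lam (PicAux.homOfSection (s.app ⊤ one))).app ⊤ one = (lam s).app ⊤ one
    rw [← hs]
  · have hw' : (moduleSpecΓFunctor (R := R)).map w = ψ := by
      refine ModuleCat.hom_ext (LinearMap.ext fun m => ?_)
      have h : (PicAux.homOfSection m ≫ w).app ⊤ one = (lam (PicAux.homOfSection m)).app ⊤ one :=
        congrArg (fun (t : Coh.structureModule X ⟶ Coh.structureModule X) => t.app ⊤ one) (hw _)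
      refine Eq.trans ?_ h
      rw [Scheme.Modules.Hom.comp_app]
      exact congrArg (w.app ⊤) (PicAux.homOfSection_one (X := X) m).symm
    have e := (tilde.adjunction (R := R)).counit.naturality w
    have e' := (tilde.adjunction (R := R)).counit.naturality v
    rw [Functor.comp_map, hw'] at e
    rw [Functor.comp_map, hv] at e'
    exact (cancel_epi G.fromTildeΓ).1 (e.symm.trans e')

/-- Degree zero class. -/
def val {M : (Spec R).Modules} (z : S1.obj M ⟶ S1.obj (Coh.structureModule (Spec R))) :
    M ⟶ Coh.structureModule (Spec R) :=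
  ev1 z ≫ inv (η _)

/-- Functionals on a bounded complex. -/
theorem existsUnique_pairing (K : DCoh.D (Spec R)) (hK : DCoh.IsQCohD K) (a : ℤ) [K.IsGE a]
    [K.IsLE 0]
    (lam : (S1.obj (Coh.structureModule (Spec R)) ⟶ K) →+ End (Coh.structureModule (Spec R)))
    (hlam : ∀ (r : Coh.Γtop (Spec R)) (ξ : S1.obj (Coh.structureModule (Spec R)) ⟶ K),
      lam (S1.map (Formal.smulModΓ _ r) ≫ ξ) = Formal.smulModΓ _ r ≫ lam ξ) :
    ∃! ψ : K ⟶ S1.obj (Coh.structureModule (Spec R)), ∀ ξ, val (ξ ≫ ψ) = lam ξ := by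
  haveI : HasExt.{u} (Spec R).Modules := hasExt_of_enoughInjectives _
  have hb : Function.Bijective
      (ev1 : (S1.obj (Coh.structureModule (Spec R)) ⟶ K) → _) := by
    refine Misc4.AbRlimEv.bijective_ev1 _ K a fun i k hk => ?_
    obtain ⟨k, rfl⟩ := Nat.exists_eq_succ_of_ne_zero (show k ≠ 0 by omega)
    obtain ⟨e⟩ := CohTwo.ExtStructure.nonempty_ext_structure_equiv (Spec R)
      ((homologyFunctor (Spec R).Modules i).obj K) (k + 1)
    haveI : Subsingleton (Coh.HH (Spec R) ((homologyFunctor (Spec R).Modules i).obj K) (k + 1)) :=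
      (CohBase.subsingleton_H_iff (X := (Spec R).toTopCat) _ (k + 1)).2
        (@CohBase.hVanish_of_isAffineOpen (Spec R) _ (hK i) ⊤ (isAffineOpen_top _) k)
    exact e.toEquiv.subsingleton
  let E := AddEquiv.ofBijective
    (AddMonoidHom.mk' (ev1 : (S1.obj (Coh.structureModule (Spec R)) ⟶ K) → _)
      Misc4.AbRlimEv.ev1_add) hb
  haveI : ((homologyFunctor (Spec R).Modules 0).obj K).IsQuasicoherent := hK 0
  obtain ⟨v, hv, hu⟩ := existsUnique_hom ((homologyFunctor (Spec R).Modules 0).obj K)
    (lam.comp E.symm.toAddMonoidHom) fun r s => by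
      obtain ⟨ξ, rfl⟩ := E.surjective s
      have e : Formal.smulModΓ _ r ≫ E ξ = E (S1.map (Formal.smulModΓ _ r) ≫ ξ) :=
        (Misc4.AbRlimEv.ev1_map _ _).symm
      simp only [AddMonoidHom.coe_comp, AddEquiv.coe_toAddMonoidHom, Function.comp_apply]
      rw [e, E.symm_apply_apply, E.symm_apply_apply]
      exact hlam r ξ
  obtain ⟨ψ, hψ⟩ := (bijective_ve K (Coh.structureModule (Spec R))).2 v
  refine ⟨ψ, fun ξ => ?_, fun ψ' hψ' => (bijective_ve K _).1 ?_⟩
  · rw [val, ev1_ve, hψ]
    exact (hv (E ξ)).trans (congrArg lam (E.symm_apply_apply ξ))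
  · rw [hψ]
    refine hu _ fun s => ?_
    obtain ⟨ξ, rfl⟩ := E.surjective s
    refine (ev1_ve ξ ψ').symm.trans ?_
    exact (hψ' ξ).trans (congrArg lam (E.symm_apply_apply ξ).symm)

end Affine

end Groth.Duality.ShriekBridge
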