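import Groth.Agent.Duality.ShriekBridge.HExt
import Groth.Agent.Duality.ShriekBridge.Affine
import Groth.Agent.DerivedCoh.PushPull.Adjunction
import Groth.Agent.DerivedCoh.RelAmp.External
import Groth.Agent.DerivedCoh.RelAmp.PushAmp
import Groth.Agent.Limits.FibreVanishingGeneral
import Groth.Prelude.Def_DDual2
import Groth.Prelude.Def_Canon

/-!
# The dualizing module of a proper scheme over an affine base is a dualizing pair

`H^{-d}` of `a(O)`, for the right adjoint `a` of `Rf_*` on `D_QCoh`, represents `F ↦ H^d(X, F)^*`.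
-/

set_option autoImplicit false
set_option backward.isDefEq.respectTransparency false
set_option linter.style.haveILetI false
set_option maxHeartbeats 1000000
set_option synthInstance.maxHeartbeats 400000

universe u

open CategoryTheory CategoryTheory.Limits AlgebraicGeometry Opposite

noncomputable section

namespace Groth.Duality.ShriekBridge

open Groth.Misc4.DerivedLift (S0 ev η)
open Groth.Misc4.AbRlimEv (S1 ev1)
open Pretriangulated DerivedCategory
open CategoryTheory.Abelian

attribute [local instance] HasDerivedCategory.standard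

section Abelian

variable {C : Type*} [Category C] [Abelian C] [HasDerivedCategory C]

/-- The class of a morphism out of an object in degree `n`. -/
def vn {n : ℤ} {F : C} {E : DerivedCategory C} (φ : (singleFunctor C n).obj F ⟶ E) :
    F ⟶ (homologyFunctor C n).obj E :=
  (singleFunctorCompHomologyFunctorIso C n).inv.app F ≫ (homologyFunctor C n).map φ

theorem vn_comp {n : ℤ} {F : C} {E E' : DerivedCategory C} (φ : (singleFunctor C n).obj F ⟶ E)
    (g : E ⟶ E') : vn (φ ≫ g) = vn φ ≫ (homologyFunctor C n).map g := by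
  simp [vn]

theorem vn_map {n : ℤ} {F G : C} (q : F ⟶ G) {E : DerivedCategory C}
    (φ : (singleFunctor C n).obj G ⟶ E) :
    vn ((singleFunctor C n).map q ≫ φ) = q ≫ vn φ := by
  have h := (singleFunctorCompHomologyFunctorIso C n).inv.naturality q
  simp only [Functor.id_map, Functor.comp_map] at h
  simp only [vn, Functor.map_comp]
  rw [← Category.assoc, ← h, Category.assoc]

theorem bijective_vn_single {n : ℤ} (F G : C) :
    Function.Bijective (vn : ((singleFunctor C n).obj F ⟶ (singleFunctor C n).obj G) → _) := by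
  have h : (vn : ((singleFunctor C n).obj F ⟶ (singleFunctor C n).obj G) → _) ∘
      (singleFunctor C n).map =
      fun q => q ≫ (singleFunctorCompHomologyFunctorIso C n).inv.app G := funext fun q => by
    have h := (singleFunctorCompHomologyFunctorIso C n).inv.naturality q
    exact h.symm
  refine (Function.Bijective.of_comp_iff _
    ((Functor.FullyFaithful.ofFullyFaithful (singleFunctor C n)).map_bijective F G)).1 ?_
  rw [h]
  exact ((singleFunctorCompHomologyFunctorIso C n).symm.app G).homToEquiv.bijective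

/-- Morphisms from an object in degree `n` to an object in degrees `≥ n`. -/
theorem bijective_vn {n : ℤ} (F : C) (E : DerivedCategory C) [E.IsGE n] :
    Function.Bijective (vn : ((singleFunctor C n).obj F ⟶ E) → _) := by
  obtain ⟨U, V, hU, hV, i, p, δ, hT⟩ := TStructure.t.exists_triangle E n (n + 1) rfl
  haveI : U.IsLE n := ⟨hU⟩
  haveI : V.IsGE (n + 1) := ⟨hV⟩
  let T := Triangle.mk i p δ
  have hS : ((singleFunctor C n).obj F).IsLE n := inferInstance
  have hb : Function.Bijective fun g : (singleFunctor C n).obj F ⟶ U => g ≫ i :=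
    Misc4.AbRlimEv.bijective_comp_mor₁ (T := T) hT
      (fun f => TStructure.t.zero_of_isLE_of_isGE f n (n + 1) (by lia) hS ‹V.IsGE (n + 1)›)
      (fun f => TStructure.t.zero_of_isLE_of_isGE f n (n + 2) (by lia) hS
        (TStructure.t.isGE_shift V (n + 1) (-1) (n + 2) (by lia)))
  haveI : IsIso ((homologyFunctor C n).map i) := by
    have : Epi ((homologyFunctor C n).map i) :=
      (HomologySequence.epi_homologyMap_mor₁_iff T hT n).2
        ((V.isZero_of_isGE (n + 1) n (by lia)).eq_of_tgt _ _)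
    have : Mono ((homologyFunctor C n).map i) :=
      (HomologySequence.mono_homologyMap_mor₁_iff T hT (n - 1) n (by lia)).2
        ((V.isZero_of_isGE (n + 1) (n - 1) (by lia)).eq_of_src _ _)
    exact isIso_of_mono_of_epi _
  haveI : U.IsGE n := (isGE_iff U n).2 fun j hj =>
    (HomologySequence.exact₁ T hT (j - 1) j (by lia)).isZero_of_both_zeros
      ((V.isZero_of_isGE (n + 1) (j - 1) (by lia)).eq_of_src _ _)
      ((E.isZero_of_isGE n j hj).eq_of_tgt _ _)
  obtain ⟨G, ⟨e⟩⟩ := exists_iso_singleFunctor_obj_of_isGE_of_isLE U n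
  have hU' : Function.Bijective (vn : ((singleFunctor C n).obj F ⟶ U) → _) := by
    have h' : (vn : ((singleFunctor C n).obj F ⟶ U) → _) =
        (fun s => s ≫ (homologyFunctor C n).map e.inv) ∘ vn ∘ (fun f => f ≫ e.hom) := by
      funext f
      simp [← vn_comp]
    rw [h']
    exact ((asIso ((homologyFunctor C n).map e.inv)).homToEquiv.bijective).comp
      ((bijective_vn_single F G).comp e.homToEquiv.bijective)
  refine (Function.Bijective.of_comp_iff _ hb).1 ?_
  have h' : (vn : ((singleFunctor C n).obj F ⟶ E) → _) ∘ (fun g => g ≫ i) =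
      (fun s => s ≫ (homologyFunctor C n).map i) ∘ vn := funext fun g => vn_comp g i
  rw [h']
  exact ((asIso ((homologyFunctor C n).map i)).homToEquiv.bijective).comp hU'

end Abelian

section Pull

variable {X Y : Scheme.{u}} (f : X ⟶ Y)

theorem pushforward_map_smulModΓ (N : X.Modules) (r : Coh.Γtop Y) :
    (Scheme.Modules.pushforward f).map (Formal.smulModΓ N (f.appTop r)) =
      Formal.smulModΓ ((Scheme.Modules.pushforward f).obj N) r := by
  refine Scheme.Modules.hom_ext _ _ fun U => ?_
  ext s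
  refine congrArg (fun t : Γ(X, f ⁻¹ᵁ U) => (t • (show Γ(N, f ⁻¹ᵁ U) from s))) ?_
  exact congr($((f.naturality (homOfLE (le_top : U ≤ ⊤)).op)) r).symm

/-- Pullback commutes with multiplication by functions. -/
theorem pullback_map_smulModΓ (M : Y.Modules) (r : Coh.Γtop Y) :
    (Scheme.Modules.pullback f).map (Formal.smulModΓ M r) =
      Formal.smulModΓ ((Scheme.Modules.pullback f).obj M) (f.appTop r) := by
  apply ((Scheme.Modules.pullbackPushforwardAdjunction f).homEquiv _ _).injective
  rw [Adjunction.homEquiv_unit, Adjunction.homEquiv_unit, pushforward_map_smulModΓ]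
  exact (((Scheme.Modules.pullbackPushforwardAdjunction f).unit.naturality _).symm).trans
    (KLin.comp_smulModΓ _ r).symm

variable [DCoh.HasLpull f]

/-- `Lf^* O = O`. -/
def eX : (DCoh.Lpull f).obj (S1.obj (Coh.structureModule Y)) ≅ S1.obj (Coh.structureModule X) :=
  DerivedCoh.KFlat.lpullQIso f (DerSch.unitCx Y) (DerivedCoh.RelAmp.isKFlat_unitCx Y) ≪≫
    DerivedCategory.Q.mapIso (DerivedCoh.RelAmp.pullUnitCxIso f)

theorem eX_smul (r : Coh.Γtop Y) :
    (DCoh.Lpull f).map (S1.map (Formal.smulModΓ (Coh.structureModule Y) r)) ≫ (eX f).hom =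
      (eX f).hom ≫ S1.map (Formal.smulModΓ (Coh.structureModule X) (f.appTop r)) := by
  let σ := (HomologicalComplex.single Y.Modules (ComplexShape.up ℤ) 0).map
    (Formal.smulModΓ (Coh.structureModule Y) r)
  let τ := (HomologicalComplex.single X.Modules (ComplexShape.up ℤ) 0).map
    (Formal.smulModΓ (Coh.structureModule X) (f.appTop r))
  have h1 : (DerivedCoh.KFlat.pullCx f).map σ ≫ (DerivedCoh.RelAmp.pullUnitCxIso f).hom =
      (DerivedCoh.RelAmp.pullUnitCxIso f).hom ≫ τ := by
    let N := HomologicalComplex.singleMapHomologicalComplex (Scheme.Modules.pullback f)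
      (ComplexShape.up ℤ) 0
    have hN := N.hom.naturality (Formal.smulModΓ (Coh.structureModule Y) r)
    have hc : (Scheme.Modules.pullback f).map (Formal.smulModΓ (Coh.structureModule Y) r) ≫
        (Groth.QCohMod.pullUnitIso f).inv =
        (Groth.QCohMod.pullUnitIso f).inv ≫
          Formal.smulModΓ (Coh.structureModule X) (f.appTop r) := by
      rw [pullback_map_smulModΓ]
      exact (KLin.comp_smulModΓ _ _).symm
    refine ((reassoc_of% hN) ((HomologicalComplex.single X.Modules (ComplexShape.up ℤ) 0).map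
      (Groth.QCohMod.pullUnitIso f).inv)).trans ?_
    refine Eq.trans ?_ (Category.assoc _ _ τ).symm
    refine congrArg (fun t => N.hom.app _ ≫ t) ?_
    exact ((HomologicalComplex.single X.Modules (ComplexShape.up ℤ) 0).map_comp _ _).symm.trans
      ((congrArg _ hc).trans
        ((HomologicalComplex.single X.Modules (ComplexShape.up ℤ) 0).map_comp _ _))
  let α := DerivedCoh.KFlat.pullCounit f
  let q := HomotopyCategory.quotient Y.Modules (ComplexShape.up ℤ)
  have hq := (DerivedCoh.KFlat.L₀Q Y).inv.naturality σ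
  have ha := α.naturality (q.map σ)
  have hx := (DerivedCoh.KFlat.L₀Q X).hom.naturality ((DerivedCoh.KFlat.pullCx f).map σ)
  have h2 : (DCoh.Lpull f).map (DerivedCategory.Q.map σ) ≫
      (DerivedCoh.KFlat.lpullQIso f (DerSch.unitCx Y) (DerivedCoh.RelAmp.isKFlat_unitCx Y)).hom =
      (DerivedCoh.KFlat.lpullQIso f (DerSch.unitCx Y) (DerivedCoh.RelAmp.isKFlat_unitCx Y)).hom ≫
        DerivedCategory.Q.map ((DerivedCoh.KFlat.pullCx f).map σ) := by
    simp only [DerivedCoh.KFlat.lpullQIso, Iso.trans_hom, Functor.mapIso_hom, Iso.app_hom,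
      Iso.symm_hom, asIso_hom, Category.assoc]
    rw [← Functor.map_comp_assoc]
    erw [hq]
    rw [Functor.map_comp_assoc]
    refine congrArg (fun t => (DCoh.Lpull f).map _ ≫ t) ?_
    refine Eq.trans ?_ (congrArg (fun t => α.app _ ≫ t) hx)
    exact (reassoc_of% ha) _
  change (DCoh.Lpull f).map (DerivedCategory.Q.map σ) ≫ _ ≫ _ = (_ ≫ _) ≫ DerivedCategory.Q.map τ
  rw [reassoc_of% h2, Category.assoc]
  refine congrArg (fun t => _ ≫ t) ?_
  exact (DerivedCategory.Q.map_comp _ _).symm.trans
    ((congrArg DerivedCategory.Q.map h1).trans (DerivedCategory.Q.map_comp _ _))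

end Pull

section ToD

variable {X : Scheme.{u}} [HasExt.{u} X.Modules] {F G : X.Modules} {m : ℕ}

/-- The shift of an object in degree zero. -/
abbrev shI (X : Scheme.{u}) (m : ℕ) (F : X.Modules) :
    (S1.obj F)⟦(m : ℤ)⟧ ≅ (singleFunctor X.Modules (-(m : ℤ))).obj F :=
  ((singleFunctors X.Modules).shiftIso (m : ℤ) (-(m : ℤ)) 0 (by lia)).app F

/-- An extension as a morphism in the derived category. -/
def toDx (x : Ext (Coh.structureModule X) F m) :
    S1.obj (Coh.structureModule X) ⟶ (singleFunctor X.Modules (-(m : ℤ))).obj F :=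
  x.hom ≫ (shI X m F).hom

theorem toDx_add (x y : Ext (Coh.structureModule X) F m) : toDx (x + y) = toDx x + toDx y := by
  simp only [toDx, Ext.add_hom]
  exact Preadditive.add_comp _ _ _ _ _ _

theorem toDx_bijective :
    Function.Bijective (toDx : Ext (Coh.structureModule X) F m → _) :=
  (shI X m F).homToEquiv.bijective.comp Ext.homEquiv.bijective

theorem toDx_comp_mk₀ (x : Ext (Coh.structureModule X) F m) (g : F ⟶ G) :
    toDx (x.comp (Ext.mk₀ g) (add_zero m)) =
      toDx x ≫ (singleFunctor X.Modules (-(m : ℤ))).map g := by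
  simp only [toDx, Ext.comp_hom, Ext.mk₀_hom, ShiftedHom.comp_mk₀, Category.assoc]
  exact congrArg (fun t => x.hom ≫ t)
    (((singleFunctors X.Modules).shiftIso (m : ℤ) (-(m : ℤ)) 0 (by lia)).hom.naturality g)

theorem toDx_mk₀_comp (g : Coh.structureModule X ⟶ Coh.structureModule X)
    (x : Ext (Coh.structureModule X) F m) :
    toDx ((Ext.mk₀ g).comp x (zero_add m)) = S1.map g ≫ toDx x := by
  simp only [toDx, Ext.comp_hom, Ext.mk₀_hom, ShiftedHom.mk₀_comp, Category.assoc]

end ToD

section Value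

variable {R : CommRingCat.{u}}

/-- The function defined by an endomorphism of `O`. -/
def toR : End (Coh.structureModule (Spec R)) →+ R where
  toFun s := (Scheme.ΓSpecIso R).hom (s.app ⊤ (PicAux.oneSec (Spec R) ⊤))
  map_zero' := map_zero (Scheme.ΓSpecIso R).hom.hom
  map_add' s t := by
    rw [Scheme.Modules.Hom.add_app]
    exact map_add (Scheme.ΓSpecIso R).hom.hom _ _

theorem toR_smul (r : Coh.Γtop (Spec R))
    (s : Coh.structureModule (Spec R) ⟶ Coh.structureModule (Spec R)) :
    toR (Formal.smulModΓ (Coh.structureModule (Spec R)) r ≫ s) =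
      (Scheme.ΓSpecIso R).hom (show Γ(Spec R, ⊤) from r) * toR s := by
  rw [← KLin.comp_smulModΓ]
  refine Eq.trans ?_ (map_mul (Scheme.ΓSpecIso R).hom.hom _ _)
  refine congrArg (Scheme.ΓSpecIso R).hom ?_
  rw [Scheme.Modules.Hom.comp_app]
  refine (KLin.smulModΓ_app_apply _ r ⊤ _).trans ?_
  exact congrArg (· • _) (congr($((Spec R).presheaf.map_id _) r))

theorem toR_bijective : Function.Bijective (toR : End (Coh.structureModule (Spec R)) → R) := by
  refine (ConcreteCategory.bijective_of_isIso (Scheme.ΓSpecIso R).hom).comp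
    ⟨fun a b h => PicAux.hom_structure_ext h, fun s => ⟨PicAux.homOfSection (M := Coh.structureModule (Spec R)) s, ?_⟩⟩
  exact PicAux.homOfSection_one (M := Coh.structureModule (Spec R)) s

theorem val_map {M : (Spec R).Modules} (p : M ⟶ M)
    (z : S1.obj M ⟶ S1.obj (Coh.structureModule (Spec R))) :
    val (S1.map p ≫ z) = p ≫ val z := by
  rw [val, val, Misc4.AbRlimEv.ev1_map, Category.assoc]

theorem val_add {M : (Spec R).Modules} (z z' : S1.obj M ⟶ S1.obj (Coh.structureModule (Spec R))) :
    val (z + z') = val z + val z' := by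
  rw [val, val, val, Misc4.AbRlimEv.ev1_add, Preadditive.add_comp]

/-- A quasi-coherent module without sections on an affine scheme is zero. -/
theorem isZero_of_forall_eq_zero (G : (Spec R).Modules) [G.IsQuasicoherent]
    (h : ∀ s : Coh.structureModule (Spec R) ⟶ G, s = 0) : IsZero G := by
  haveI : IsIso G.fromTildeΓ := inferInstance
  have hz : IsZero ((moduleSpecΓFunctor (R := R)).obj G) := by
    refine @ModuleCat.isZero_of_subsingleton _ _ _ ⟨fun a b => ?_⟩
    have h0 : ∀ m : Γ(G, ⊤), m = 0 := fun m => by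
      rw [← PicAux.homOfSection_one m, h (PicAux.homOfSection m)]
      rfl
    exact (h0 a).trans (h0 b).symm
  exact ((tilde.functor R).map_isZero hz).of_iso (asIso G.fromTildeΓ).symm

end Value

section Main

variable (A : Type u) [CommRing A] (X : Scheme.{u}) [X.Over (Spec (CommRingCat.of A))]
  [DCoh.HasLpull (X ↘ Spec (CommRingCat.of A))] [DCoh.HasRpush (X ↘ Spec (CommRingCat.of A))]

/-- The structure module of the base in degree zero. -/
abbrev O0 : DCoh.D (Spec (CommRingCat.of A)) :=
  S1.obj (Coh.structureModule (Spec (CommRingCat.of A)))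

variable {X} [HasExt.{u} X.Modules]

/-- Classes as morphisms on the base. -/
def hE {F : X.Modules} {m : ℕ} (x : Ext (Coh.structureModule X) F m) :
    O0 A ⟶ (DCoh.Rpush (X ↘ Spec (CommRingCat.of A))).obj
      ((singleFunctor X.Modules (-(m : ℤ))).obj F) :=
  (DerivedCoh.PushPull.lpullRpushAdj (X ↘ Spec (CommRingCat.of A))).homEquiv _ _
    ((eX (X ↘ Spec (CommRingCat.of A))).hom ≫ toDx x)

theorem hE_bijective (F : X.Modules) (m : ℕ) :
    Function.Bijective (hE A : Ext (Coh.structureModule X) F m → _) :=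
  ((DerivedCoh.PushPull.lpullRpushAdj (X ↘ Spec (CommRingCat.of A))).homEquiv _ _).bijective.comp
    ((eX (X ↘ Spec (CommRingCat.of A))).symm.homFromEquiv.bijective.comp toDx_bijective)

theorem hE_add {F : X.Modules} {m : ℕ} (x y : Ext (Coh.structureModule X) F m) :
    hE A (x + y) = hE A x + hE A y := by
  let adj := DerivedCoh.PushPull.lpullRpushAdj (X ↘ Spec (CommRingCat.of A))
  haveI : PreservesLimitsOfSize.{0, 0} (DCoh.Rpush (X ↘ Spec (CommRingCat.of A))) :=
    adj.rightAdjoint_preservesLimits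
  haveI : (DCoh.Rpush (X ↘ Spec (CommRingCat.of A))).Additive :=
    Functor.additive_of_preserves_binary_products _
  haveI : (DCoh.Lpull (X ↘ Spec (CommRingCat.of A))).Additive := adj.left_adjoint_additive
  simp only [hE, toDx_add, Preadditive.comp_add]
  exact (adj.homAddEquiv _ _).map_add _ _

theorem hE_comp {F G : X.Modules} {m : ℕ} (x : Ext (Coh.structureModule X) F m) (g : F ⟶ G) :
    hE A (x.comp (Ext.mk₀ g) (add_zero m)) =
      hE A x ≫ (DCoh.Rpush (X ↘ Spec (CommRingCat.of A))).map
        ((singleFunctor X.Modules (-(m : ℤ))).map g) := by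
  rw [hE, hE, toDx_comp_mk₀, ← Category.assoc, Adjunction.homEquiv_naturality_right]

theorem hE_smul {F : X.Modules} {m : ℕ} (a : A) (x : Ext (Coh.structureModule X) F m) :
    hE A (x.comp (Ext.mk₀ (Formal.smulMod A F a)) (add_zero m)) =
      S1.map (Formal.smulModΓ (Coh.structureModule (Spec (CommRingCat.of A)))
        ((Scheme.ΓSpecIso (CommRingCat.of A)).inv a)) ≫ hE A x := by
  have e : x.comp (Ext.mk₀ (Formal.smulMod A F a)) (add_zero m) =
      (Ext.mk₀ (Formal.smulMod A (Coh.structureModule X) a)).comp x (zero_add m) := by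
    have h1 : a • x = x.comp (Ext.mk₀ (a • 𝟙 F)) (add_zero m) := Ext.smul_eq_comp_mk₀ x a
    have h2 : a • x = (Ext.mk₀ (a • 𝟙 (Coh.structureModule X))).comp x (zero_add m) := by
      rw [Ext.mk₀_smul, Ext.smul_comp, Ext.mk₀_id_comp]
    have hF : (a • 𝟙 F : F ⟶ F) = Formal.smulMod A F a := by
      rw [KLin.smul_def]; exact Category.comp_id _
    have hO : (a • 𝟙 (Coh.structureModule X) : Coh.structureModule X ⟶ Coh.structureModule X) =
        Formal.smulMod A (Coh.structureModule X) a := by
      rw [KLin.smul_def]; exact Category.comp_id _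
    rw [← hF, ← hO, ← h1, ← h2]
  rw [e, hE, hE, toDx_mk₀_comp, ← Adjunction.homEquiv_naturality_left, ← Category.assoc,
    ← Category.assoc, eX_smul]
  rfl

variable {A} [IsNoetherianRing A] [IsProper (X ↘ Spec (CommRingCat.of A))] {d : ℕ}

omit [DCoh.HasLpull (X ↘ Spec (CommRingCat.of A))] [HasExt.{u} X.Modules] in
/-- The higher direct images vanish above the fibre dimension. -/
theorem isZero_HD_Rpush
    (hfib : ∀ P, topologicalKrullDim ↥((X ↘ Spec (CommRingCat.of A)).fiber P) ≤ (d : WithBot ℕ∞))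
    (h : DCoh.RpushPreservesQCoh (X ↘ Spec (CommRingCat.of A))) (M : X.Modules) (hM : Coh.IsQCoh M)
    (i : ℤ) (hi : (d : ℤ) < i) :
    IsZero (DCoh.HD ((DCoh.Rpush (X ↘ Spec (CommRingCat.of A))).obj (DCoh.inD X M)) i) := by
  haveI := DerivedCoh.KFlat.hasLpull (X ↘ Spec (CommRingCat.of A))
  haveI : HasExt.{u} X.Modules := hasExt_of_enoughInjectives _
  haveI : HasExt.{u} (Spec (CommRingCat.of A)).Modules := hasExt_of_enoughInjectives _
  haveI : M.IsQuasicoherent := hM
  obtain ⟨l, rfl⟩ : ∃ l : ℕ, i = l := ⟨i.toNat, by omega⟩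
  let f := X ↘ Spec (CommRingCat.of A)
  obtain ⟨e1⟩ := DerivedCoh.PerfPush.nonempty_hd_single f M 0 (l : ℤ) l (by lia)
  obtain ⟨e2⟩ := DerivedCoh.PerfPush.nonempty_hd_single f M (-(l : ℤ)) 0 l (by lia)
  let K := (DCoh.Rpush f).obj ((singleFunctor X.Modules (-(l : ℤ))).obj M)
  have hK : DCoh.IsQCohD K := h _ (Misc4.QCohDColim.isQCohD_single M _)
  haveI : K.IsGE (-(l : ℤ)) := DerivedCoh.PerfPush.isGE_Rpush f _ _
  refine IsZero.of_iso ?_ (e1 ≪≫ e2.symm)
  haveI : (DCoh.HD K 0).IsQuasicoherent := hK 0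
  refine isZero_of_forall_eq_zero (R := CommRingCat.of A) (DCoh.HD K 0) fun s => ?_
  have hb := Misc4.AbRlimEv.bijective_ev1 (Coh.structureModule (Spec (CommRingCat.of A))) K
    (-(l : ℤ)) fun j k hk => by
      obtain ⟨k, rfl⟩ := Nat.exists_eq_succ_of_ne_zero (show k ≠ 0 by omega)
      obtain ⟨e⟩ := CohTwo.ExtStructure.nonempty_ext_structure_equiv (Spec (CommRingCat.of A))
        ((homologyFunctor (Spec (CommRingCat.of A)).Modules j).obj K) (k + 1)
      haveI : Subsingleton (Coh.HH (Spec (CommRingCat.of A))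
          ((homologyFunctor (Spec (CommRingCat.of A)).Modules j).obj K) (k + 1)) :=
        (CohBase.subsingleton_H_iff (X := (Spec (CommRingCat.of A)).toTopCat) _ (k + 1)).2
          (@CohBase.hVanish_of_isAffineOpen (Spec (CommRingCat.of A)) _ (hK j) ⊤
            (isAffineOpen_top _) k)
      exact e.toEquiv.subsingleton
  obtain ⟨ξ, rfl⟩ := hb.2 s
  obtain ⟨x, rfl⟩ := (hE_bijective A M l).2 ξ
  haveI := Limits.FibreVanishing.subsingleton_HH_of_dim_fiber_le d hfib M l (by omega)
  have hx : x = 0 := (cls_bijective A l M).1 (Subsingleton.elim _ _)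
  subst hx
  have h0 : hE A (0 : Ext (Coh.structureModule X) M l) = 0 := by
    have := hE_add A (0 : Ext (Coh.structureModule X) M l) 0
    rwa [add_zero, eq_comm, add_eq_right] at this
  rw [h0]
  simp [ev1, ev]

variable
  (hfib : ∀ P, topologicalKrullDim ↥((X ↘ Spec (CommRingCat.of A)).fiber P) ≤ (d : WithBot ℕ∞))
  (h : DCoh.RpushPreservesQCoh (X ↘ Spec (CommRingCat.of A)))
  (a : DCoh.DQCoh (Spec (CommRingCat.of A)) ⥤ DCoh.DQCoh X)
  (adj : DCoh.RpushQ (X ↘ Spec (CommRingCat.of A)) h ⊣ a)
  (OY : DCoh.DQCoh (Spec (CommRingCat.of A))) (eS : OY.obj ≅ O0 A)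

omit [DCoh.HasLpull (X ↘ Spec (CommRingCat.of A))] [HasExt.{u} X.Modules] [IsNoetherianRing A]
  [IsProper (X ↘ Spec (CommRingCat.of A))] in
/-- Transposes. -/
theorem transpose_bijective (K : DCoh.D X) (hK : DCoh.IsQCohD K) :
    Function.Bijective fun v : K ⟶ (a.obj OY).obj =>
      (DCoh.Rpush (X ↘ Spec (CommRingCat.of A))).map v ≫ (adj.counit.app OY).hom ≫ eS.hom := by
  let P : DCoh.DQCoh X := ⟨K, hK⟩
  have h1 : Function.Bijective (fun v : K ⟶ (a.obj OY).obj =>
      (ObjectProperty.homMk v : P ⟶ a.obj OY)) :=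
    ⟨fun u v huv => congrArg (fun g : P ⟶ a.obj OY => g.hom) huv, fun g => ⟨g.hom, rfl⟩⟩
  have h2 : Function.Bijective
      (fun g : (DCoh.RpushQ (X ↘ Spec (CommRingCat.of A)) h).obj P ⟶ OY => g.hom ≫ eS.hom) :=
    ⟨fun u v huv => ObjectProperty.hom_ext _ ((cancel_mono eS.hom).1 huv),
      fun g => ⟨ObjectProperty.homMk (g ≫ eS.inv), by simp⟩⟩
  have h3 := (h2.comp (adj.homEquiv P OY).symm.bijective).comp h1
  refine (congrArg Function.Bijective (funext fun v => ?_)).mp h3
  simp only [Function.comp_apply, Adjunction.homEquiv_counit]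
  exact Category.assoc _ _ _

include hfib h in
/-- The Rpush of an object in degrees `≤ n` with quasi-coherent cohomology. -/
theorem isLE_Rpush (K : DCoh.D X) (hK : DCoh.IsQCohD K) (e : ℤ) [K.IsLE e] :
    ((DCoh.Rpush (X ↘ Spec (CommRingCat.of A))).obj K).IsLE (e + d) :=
  DerivedCoh.RelAmp.isLE_Rpush_of_vanish _ d
    (fun M hM i hi => isZero_HD_Rpush hfib h M hM i hi) K hK e

include hfib adj eS in
/-- `a(O)` lives in degrees `≥ -d`. -/
theorem isGE_shriek : ((a.obj OY).obj).IsGE (-(d : ℤ)) := by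
  let E := (a.obj OY).obj
  obtain ⟨U, V, hU, hV, i, p, δ, hT⟩ :=
    TStructure.t.exists_triangle E (-(d : ℤ) - 1) (-(d : ℤ)) (by lia)
  haveI : U.IsLE (-(d : ℤ) - 1) := ⟨hU⟩
  haveI : V.IsGE (-(d : ℤ)) := ⟨hV⟩
  let T := Triangle.mk i p δ
  have hiso : ∀ j, j ≤ -(d : ℤ) - 1 → IsIso ((homologyFunctor X.Modules j).map i) := fun j hj => by
    have : Epi ((homologyFunctor X.Modules j).map i) :=
      (HomologySequence.epi_homologyMap_mor₁_iff T hT j).2
        ((V.isZero_of_isGE (-(d : ℤ)) j (by lia)).eq_of_tgt _ _)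
    have : Mono ((homologyFunctor X.Modules j).map i) :=
      (HomologySequence.mono_homologyMap_mor₁_iff T hT (j - 1) j (by lia)).2
        ((V.isZero_of_isGE (-(d : ℤ)) (j - 1) (by lia)).eq_of_src _ _)
    exact isIso_of_mono_of_epi _
  have hqU : DCoh.IsQCohD U := fun j => by
    by_cases hj : j ≤ -(d : ℤ) - 1
    · haveI := hiso j hj
      exact (Groth.QCohMod.isQCoh_iff_of_iso (asIso ((homologyFunctor X.Modules j).map i))).2
        ((a.obj OY).property j)
    · exact Misc4.QCohDPerf.isQCoh_isZero (U.isZero_of_isLE (-(d : ℤ) - 1) j (by lia))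
  haveI := isLE_Rpush hfib h U hqU (-(d : ℤ) - 1)
  have hzero : ∀ v : (DCoh.Rpush (X ↘ Spec (CommRingCat.of A))).obj U ⟶ O0 A, v = 0 := fun v =>
    TStructure.t.zero_of_isLE_of_isGE v (-(d : ℤ) - 1 + d) 0 (by lia) ‹_›
      (inferInstanceAs (TStructure.t.IsGE
        ((singleFunctor (Spec (CommRingCat.of A)).Modules 0).obj _) 0))
  have hi : i = 0 := (transpose_bijective h a adj OY eS U hqU).1 ((hzero _).trans (hzero _).symm)
  refine (isGE_iff E (-(d : ℤ))).2 fun j hj => ?_
  haveI := hiso j (by lia)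
  have h0 : (homologyFunctor X.Modules j).map i = 0 := by rw [hi, Functor.map_zero]
  exact IsZero.of_epi_eq_zero _ h0

/-- The canonical morphism from `H^{-d}` in degree `-d`. -/
theorem exists_eps [((a.obj OY).obj).IsGE (-(d : ℤ))] :
    ∃ ε : (singleFunctor X.Modules (-(d : ℤ))).obj (DCoh.HD (a.obj OY).obj (-(d : ℤ))) ⟶
        (a.obj OY).obj, vn ε = 𝟙 _ :=
  (bijective_vn _ _).2 _

include hfib adj eS in
/-- `H^{-d}(a O)` is a dualizing pair. -/
theorem exists_isRDualOver :
    ∃ tr : Coh.HH X (DCoh.HD (a.obj OY).obj (-(d : ℤ))) d →ₗ[A] A,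
      Canon.IsRDualOver A X d (DCoh.HD (a.obj OY).obj (-(d : ℤ))) tr := by
  haveI := isGE_shriek hfib h a adj OY eS
  let f := X ↘ Spec (CommRingCat.of A)
  let E := (a.obj OY).obj
  let ω := DCoh.HD E (-(d : ℤ))
  obtain ⟨ε, hε⟩ := exists_eps (d := d) a OY
  have hω : Coh.IsQCoh ω := (a.obj OY).property _
  let tr₀ := (adj.counit.app OY).hom ≫ eS.hom
  let τ := (DCoh.Rpush f).map ε ≫ tr₀
  let c : Coh.HH X ω d ≃ Ext (Coh.structureModule X) ω d :=
    (Equiv.ofBijective _ (cls_bijective A d ω)).symm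
  have hcc : ∀ x, c (cls x) = x := (Equiv.ofBijective _ (cls_bijective A d ω)).symm_apply_apply
  let t : Coh.HH X ω d → A := fun z => toR (val (hE A (c z) ≫ τ))
  have ht : ∀ x, t (cls x) = toR (val (hE A x ≫ τ)) := fun x => by simp only [t, hcc]
  let tr : Coh.HH X ω d →ₗ[A] A :=
    { toFun := t
      map_add' := fun z z' => by
        obtain ⟨x, rfl⟩ := (cls_bijective A d ω).2 z
        obtain ⟨y, rfl⟩ := (cls_bijective A d ω).2 z'
        rw [← cls_add, ht, ht, ht, hE_add, Preadditive.add_comp, val_add, map_add]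
      map_smul' := fun b z => by
        obtain ⟨x, rfl⟩ := (cls_bijective A d ω).2 z
        rw [← cls_smulMod A b x, ht, ht, hE_smul, Category.assoc, val_map, toR_smul]
        exact congrArg (· * _) (congr($((Scheme.ΓSpecIso (CommRingCat.of A)).inv_hom_id) b)) }
  refine ⟨tr, hω, fun F hF => ?_⟩
  haveI : F.IsQuasicoherent := hF
  let SF := (singleFunctor X.Modules (-(d : ℤ))).obj F
  have hqF : DCoh.IsQCohD SF := Misc4.QCohDColim.isQCohD_single F _
  let K := (DCoh.Rpush f).obj SF
  haveI : K.IsGE (-(d : ℤ)) := DerivedCoh.PerfPush.isGE_Rpush f _ _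
  haveI : K.IsLE 0 := by
    have := isLE_Rpush hfib h SF hqF (-(d : ℤ))
    rwa [neg_add_cancel] at this
  have h1 : Function.Bijective fun φ : F ⟶ ω =>
      (singleFunctor X.Modules (-(d : ℤ))).map φ ≫ ε := by
    have e : (vn : (SF ⟶ E) → _) ∘ (fun φ : F ⟶ ω =>
        (singleFunctor X.Modules (-(d : ℤ))).map φ ≫ ε) = id := funext fun φ => by
      change vn ((singleFunctor X.Modules (-(d : ℤ))).map φ ≫ ε) = φ
      rw [vn_map, hε, Category.comp_id]
    refine (Function.Bijective.of_comp_iff' (bijective_vn F E) _).1 ?_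
    rw [e]
    exact Function.bijective_id
  have key : ∀ (φ : F ⟶ ω) (x : Ext (Coh.structureModule X) F d),
      Canon.dualityMap A X d ω tr F φ (cls x) =
        toR (val (hE A x ≫ (DCoh.Rpush f).map
          ((singleFunctor X.Modules (-(d : ℤ))).map φ ≫ ε) ≫ tr₀)) := fun φ x => by
    change t (EulerDeg.hMap A φ d (cls x)) = _
    rw [← cls_comp_mk₀, ht, hE_comp, Category.assoc, Functor.map_comp, Category.assoc]
  rw [Function.bijective_iff_existsUnique]
  intro g
  let R := Equiv.ofBijective _ (toR_bijective (R := CommRingCat.of A))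
  let H := Equiv.ofBijective _ (hE_bijective A F d)
  let lam : (O0 A ⟶ K) →+ End (Coh.structureModule (Spec (CommRingCat.of A))) :=
    AddMonoidHom.mk' (fun ξ => R.symm (g (cls (H.symm ξ)))) fun ξ ξ' => by
      apply R.injective
      have e : H.symm (ξ + ξ') = H.symm ξ + H.symm ξ' := H.injective (by
        simp only [H, Equiv.ofBijective_apply, hE_add, Equiv.ofBijective_apply_symm_apply])
      change R (R.symm _) = toR (R.symm _ + R.symm _)
      rw [e, cls_add, map_add g, map_add toR]
      simp only [R, Equiv.ofBijective_apply, Equiv.ofBijective_apply_symm_apply]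
  have hlam : ∀ (r : Coh.Γtop (Spec (CommRingCat.of A))) (ξ : O0 A ⟶ K),
      lam (S1.map (Formal.smulModΓ _ r) ≫ ξ) = Formal.smulModΓ _ r ≫ lam ξ := fun r ξ => by
    let b : A := (Scheme.ΓSpecIso (CommRingCat.of A)).hom (show Γ(Spec _, ⊤) from r)
    have hb : (Scheme.ΓSpecIso (CommRingCat.of A)).inv b = r :=
      congr($((Scheme.ΓSpecIso (CommRingCat.of A)).hom_inv_id) r)
    apply R.injective
    have e : H.symm (S1.map (Formal.smulModΓ _ r) ≫ ξ) =
        (H.symm ξ).comp (Ext.mk₀ (Formal.smulMod A F b)) (add_zero d) := H.injective (by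
      simp only [H, Equiv.ofBijective_apply, Equiv.ofBijective_apply_symm_apply, hE_smul, hb])
    change R (R.symm _) = toR (Formal.smulModΓ _ r ≫ R.symm _)
    rw [toR_smul, e, cls_smulMod, map_smul]
    simp only [R, Equiv.ofBijective_apply, Equiv.ofBijective_apply_symm_apply]
    rfl
  obtain ⟨ψ, hψ, hψu⟩ := existsUnique_pairing (R := CommRingCat.of A) K (h _ hqF) (-(d : ℤ)) lam hlam
  have h2 := (transpose_bijective h a adj OY eS SF hqF).comp h1
  obtain ⟨φ, hφ⟩ := h2.2 ψ
  have conv : ∀ (φ' : F ⟶ ω), Canon.dualityMap A X d ω tr F φ' = g ↔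
      ∀ ξ, val (ξ ≫ (DCoh.Rpush f).map
        ((singleFunctor X.Modules (-(d : ℤ))).map φ' ≫ ε) ≫ tr₀) = lam ξ := fun φ' => by
    constructor
    · intro he ξ
      obtain ⟨x, rfl⟩ := H.surjective ξ
      apply R.injective
      change toR _ = R (R.symm (g (cls (H.symm (H x)))))
      rw [R.apply_symm_apply, H.symm_apply_apply, ← he, key]
      rfl
    · intro he
      refine LinearMap.ext fun z => ?_
      obtain ⟨x, rfl⟩ := (cls_bijective A d F).2 z
      rw [key, show hE A x = H x from rfl, he]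
      change R (R.symm (g (cls (H.symm (H x))))) = _
      rw [R.apply_symm_apply, H.symm_apply_apply]
  refine ⟨φ, (conv φ).2 fun ξ => ?_, fun φ' hφ' => h2.1 ?_⟩
  · rw [← hψ ξ, ← hφ]
    rfl
  · exact (hψu _ ((conv φ').1 hφ')).trans hφ.symm

end Main

section Dualizing

variable {A : Type u} [CommRing A] [IsNoetherianRing A] {X : Scheme.{u}}
  [X.Over (Spec (CommRingCat.of A))] [IsProper (X ↘ Spec (CommRingCat.of A))]
  [DCoh.HasRpush (X ↘ Spec (CommRingCat.of A))]

/-- The dualizing module is a dualizing pair. -/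
theorem exists_isRDualOver_dualizingMod {d : ℕ}
    (hfib : ∀ P, topologicalKrullDim ↥((X ↘ Spec (CommRingCat.of A)).fiber P) ≤ (d : WithBot ℕ∞))
    (h : DCoh.RpushPreservesQCoh (X ↘ Spec (CommRingCat.of A)))
    [DCoh.HasShriek (X ↘ Spec (CommRingCat.of A)) h]
    (OY : DCoh.DQCoh (Spec (CommRingCat.of A)))
    (hOY : Nonempty (OY.obj ≅ DCoh.inD (Spec (CommRingCat.of A))
      (Coh.structureModule (Spec (CommRingCat.of A))))) :
    ∃ tr : Coh.HH X (DCoh.dualizingMod (X ↘ Spec (CommRingCat.of A)) h OY d) d →ₗ[A] A,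
      Canon.IsRDualOver A X d (DCoh.dualizingMod (X ↘ Spec (CommRingCat.of A)) h OY d) tr := by
  haveI := DerivedCoh.KFlat.hasLpull (X ↘ Spec (CommRingCat.of A))
  haveI : HasExt.{u} X.Modules := hasExt_of_enoughInjectives _
  obtain ⟨e⟩ := hOY
  exact exists_isRDualOver hfib h _ (DCoh.shriekAdj (X ↘ Spec (CommRingCat.of A)) h) OY e

end Dualizing

end Groth.Duality.ShriekBridge
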