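import Groth.Agent.Duality.ShriekBridge.Main
import Groth.Agent.Misc4.DerivedAdj

/-!
# The trace of a connected curve is injective

For `X` proper of dimension `≤ 1` over a field with `H⁰(O) = k`, the trace `H¹(ω) → k` of the
dualizing module is injective.
-/

set_option autoImplicit false
set_option backward.isDefEq.respectTransparency false
set_option linter.style.haveILetI false
set_option maxHeartbeats 1000000
set_option synthInstance.maxHeartbeats 400000

universe u

open CategoryTheory CategoryTheory.Limits AlgebraicGeometry Opposite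

noncomputable section

namespace Groth.Duality.ShriekBridge

open Groth.Misc4.DerivedLift (S0 ev η)
open Groth.Misc4.AbRlimEv (S1 ev1)
open Pretriangulated DerivedCategory
open CategoryTheory.Abelian

attribute [local instance] HasDerivedCategory.standard

section FieldBase

variable (k : Type u) [Field k]

theorem subsingleton_spec_field : Subsingleton ↥(Spec (CommRingCat.of k)) :=
  inferInstanceAs (Subsingleton (PrimeSpectrum k))

/-- On a one-point spectrum every module is quasi-coherent. -/
theorem isIso_fromTildeΓ_of_subsingleton {R : CommRingCat.{u}} [Subsingleton ↥(Spec R)]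
    (M : (Spec R).Modules) : IsIso M.fromTildeΓ := by
  refine Scheme.Modules.Hom.isIso_iff_isIso_app.2 fun U => ?_
  rw [ConcreteCategory.isIso_iff_bijective]
  rcases (U : Set ↥(Spec R)).eq_empty_or_nonempty with h0 | ⟨x, hx⟩
  · have : U = ⊥ := TopologicalSpace.Opens.ext h0
    subst this
    haveI h1 : Subsingleton Γ(M, (⊥ : (Spec R).Opens)) := Groth.QCohMod.subsingleton_bot M rfl
    haveI h2 : Subsingleton Γ((tilde.functor R).obj ((moduleSpecΓFunctor (R := R)).obj M),
        (⊥ : (Spec R).Opens)) := Groth.QCohMod.subsingleton_bot _ rfl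
    exact ⟨fun a b _ => @Subsingleton.elim _ h2 _ _, fun b => ⟨0, @Subsingleton.elim _ h1 _ _⟩⟩
  · have : U = ⊤ := TopologicalSpace.Opens.ext
      (Set.eq_univ_of_forall fun y => Subsingleton.elim x y ▸ hx)
    subst this
    have h := (tilde.adjunction (R := R)).right_triangle_components M
    haveI hu : IsIso ((tilde.adjunction (R := R)).unit.app
        ((moduleSpecΓFunctor (R := R)).obj M)) := by
      change IsIso ((tilde.toTildeΓNatIso (R := R)).hom.app _)
      infer_instance
    have : IsIso ((moduleSpecΓFunctor (R := R)).map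
        ((tilde.adjunction (R := R)).counit.app M)) := by
      rw [IsIso.eq_inv_of_hom_inv_id h]
      infer_instance
    exact ConcreteCategory.bijective_of_isIso ((moduleSpecΓFunctor (R := R)).map
      ((tilde.adjunction (R := R)).counit.app M))

/-- If all modules over `R` are injective and `Spec R` is a point, so are all sheaves. -/
theorem injective_of_subsingleton {R : CommRingCat.{u}} [Subsingleton ↥(Spec R)]
    (hR : ∀ V : ModuleCat.{u} R, Injective V) (P : (Spec R).Modules) : Injective P := by
  refine ⟨fun {G N} g i hi => ?_⟩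
  let adj := tilde.adjunction (R := R)
  haveI : IsIso (adj.counit.app G) := isIso_fromTildeΓ_of_subsingleton G
  haveI : IsIso (adj.counit.app N) := isIso_fromTildeΓ_of_subsingleton N
  haveI : PreservesLimitsOfSize.{0, 0} (moduleSpecΓFunctor (R := R)) :=
    adj.rightAdjoint_preservesLimits
  haveI := hR ((moduleSpecΓFunctor (R := R)).obj P)
  let L := Injective.factorThru ((moduleSpecΓFunctor (R := R)).map g)
    ((moduleSpecΓFunctor (R := R)).map i)
  have hL : (moduleSpecΓFunctor (R := R)).map i ≫ L = (moduleSpecΓFunctor (R := R)).map g :=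
    Injective.comp_factorThru _ _
  refine ⟨inv (adj.counit.app N) ≫ (tilde.functor R).map L ≫ adj.counit.app _,
    (cancel_epi (adj.counit.app G)).1 ?_⟩
  have hi' := adj.counit.naturality i
  have hg' := adj.counit.naturality g
  simp only [Functor.comp_map, Functor.id_map] at hi' hg'
  rw [← reassoc_of% hi', IsIso.hom_inv_id_assoc, ← Functor.map_comp_assoc, hL, hg']

/-- Modules on the spectrum of a field are quasi-coherent. -/
theorem isQCoh_spec_field (M : (Spec (CommRingCat.of k)).Modules) : M.IsQuasicoherent :=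
  haveI := subsingleton_spec_field k
  (isQuasicoherent_iff_isIso_fromTildeΓ M).2 (isIso_fromTildeΓ_of_subsingleton M)

/-- The structure module of a field is injective. -/
theorem injective_structure_spec_field :
    Injective (Coh.structureModule (Spec (CommRingCat.of k))) := by
  haveI := subsingleton_spec_field k
  refine injective_of_subsingleton (fun V => ⟨fun {G N} g i hi => ?_⟩) _
  obtain ⟨r, hr⟩ := LinearMap.exists_leftInverse_of_injective (K := k) (V := G) (V' := N) i.hom
    (LinearMap.ker_eq_bot.2 ((ModuleCat.mono_iff_injective _).1 inferInstance))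
  refine ⟨ModuleCat.ofHom r ≫ g, ?_⟩
  have h1 : i ≫ ModuleCat.ofHom r = 𝟙 _ := ModuleCat.hom_ext hr
  rw [← Category.assoc, h1, Category.id_comp]

end FieldBase

section Abelian

variable {C : Type (u + 1)} [Category.{u} C] [Abelian C] [HasDerivedCategory C]

/-- No morphisms from positive degrees to an injective object in degree zero. -/
theorem hom_eq_zero_of_isGE_one (N : C) [Injective N] (V : DerivedCategory C) [V.IsGE 1]
    (f : V ⟶ S1.obj N) : f = 0 := by
  obtain ⟨L, _, ⟨e⟩⟩ := DerivedCategory.exists_iso_Q_obj_of_isGE V 1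
  let J := (CochainComplex.singleFunctor C 0).obj N
  haveI : J.IsStrictlyGE 0 := inferInstanceAs (((CochainComplex.singleFunctor C 0).obj N).IsStrictlyGE 0)
  haveI : ∀ n, Injective (J.X n) := fun n => by
    by_cases hn : n = 0
    · subst hn
      exact Injective.of_iso (HomologicalComplex.singleObjXSelf (ComplexShape.up ℤ) 0 N).symm inferInstance
    · exact (HomologicalComplex.isZero_single_obj_X (ComplexShape.up ℤ) 0 N n hn).injective
  haveI : J.IsKInjective := CochainComplex.isKInjective_of_injective J 0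
  obtain ⟨φ, hφ⟩ := Groth.Misc4.DerivedAdj.exists_lift (K := L) (L := J) (e.inv ≫ f)
  have h0 : φ = 0 := by
    refine HomologicalComplex.hom_ext _ _ fun n => ?_
    by_cases hn : n = 0
    · subst hn
      exact (L.isZero_of_isStrictlyGE 1 0 (by lia)).eq_of_src _ _
    · exact (HomologicalComplex.isZero_single_obj_X (ComplexShape.up ℤ) 0 N n hn).eq_of_tgt _ _
  rw [h0, Functor.map_zero] at hφ
  exact (cancel_epi e.inv).1 (hφ.symm.trans comp_zero.symm)

/-- The canonical morphism from the lowest cohomology is injective on morphisms from degrees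
`≤ n + 1`. -/
theorem comp_eps_injective {n : ℤ} {G : C} {E : DerivedCategory C} [E.IsGE n]
    (ε : (singleFunctor C n).obj G ⟶ E) [IsIso (vn ε)] (W : DerivedCategory C) [W.IsLE (n + 1)]
    (g : W ⟶ (singleFunctor C n).obj G) (hg : g ≫ ε = 0) : g = 0 := by
  obtain ⟨Z, b, c, hT⟩ := distinguished_cocone_triangle ε
  let T := Triangle.mk ε b c
  haveI : IsIso ((homologyFunctor C n).map ε) := by
    haveI : IsIso ((singleFunctorCompHomologyFunctorIso C n).inv.app G ≫
        (homologyFunctor C n).map ε) := inferInstanceAs (IsIso (vn ε))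
    exact IsIso.of_isIso_comp_left ((singleFunctorCompHomologyFunctorIso C n).inv.app G) _
  haveI : Z.IsGE (n + 1) := (isGE_iff Z (n + 1)).2 fun j hj => by
    refine (HomologySequence.exact₃ T hT j (j + 1) rfl).isZero_of_both_zeros ?_ ?_
    · by_cases hjn : j = n
      · subst hjn
        exact (HomologySequence.epi_homologyMap_mor₁_iff T hT j).1
          (inferInstanceAs (Epi ((homologyFunctor C j).map ε)))
      · rcases lt_or_gt_of_ne hjn with hlt | hgt
        · exact (E.isZero_of_isGE n j hlt).eq_of_src _ _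
        · exfalso; lia
    · by_cases hjn : j + 1 = n
      · subst hjn
        exact (HomologySequence.mono_homologyMap_mor₁_iff T hT j (j + 1) rfl).1
          (inferInstanceAs (Mono ((homologyFunctor C (j + 1)).map ε)))
      · rcases lt_or_gt_of_ne hjn with hlt | hgt
        · exact (((singleFunctor C n).obj G).isZero_of_isGE n (j + 1) hlt).eq_of_tgt _ _
        · exact (((singleFunctor C n).obj G).isZero_of_isLE n (j + 1) hgt).eq_of_tgt _ _
  obtain ⟨h', hh'⟩ := Triangle.coyoneda_exact₂ _ (inv_rot_of_distTriang _ hT) g hg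
  have : h' = 0 := TStructure.t.zero_of_isLE_of_isGE h' (n + 1) (n + 2) (by lia) ‹W.IsLE (n + 1)›
    (TStructure.t.isGE_shift Z (n + 1) (-1) (n + 2) (by lia))
  exact hh'.trans (by rw [this]; exact zero_comp)

end Abelian

section Main

variable {k : Type u} [Field k] {X : Scheme.{u}} [X.Over (Spec (CommRingCat.of k))]
  [IsProper (X ↘ Spec (CommRingCat.of k))] [DCoh.HasRpush (X ↘ Spec (CommRingCat.of k))]

/-- Endomorphisms of `O` on a connected curve are scalars. -/
theorem exists_eq_smulMod [HasExt.{u} X.Modules]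
    (h0 : Module.finrank k (Coh.HH X (Coh.structureModule X) 0) = 1)
    (g : Coh.structureModule X ⟶ Coh.structureModule X) :
    ∃ c : k, g = Formal.smulMod k (Coh.structureModule X) c := by
  let z := cls (X := X) (Ext.mk₀ (𝟙 (Coh.structureModule X)))
  have hz : z ≠ 0 := fun hz => by
    have h1 : Ext.mk₀ (𝟙 (Coh.structureModule X)) = 0 :=
      (cls_bijective k 0 _).1 (hz.trans (by
        have := cls_add (X := X) (0 : Ext (Coh.structureModule X) (Coh.structureModule X) 0) 0
        rwa [add_zero, left_eq_add, eq_comm] at this))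
    have h2 : 𝟙 (Coh.structureModule X) = 0 :=
      (Ext.mk₀_bijective _ _).1 (h1.trans (Ext.mk₀_zero _ _).symm)
    have : Subsingleton (Coh.HH X (Coh.structureModule X) 0) := ⟨fun a b => by
      rw [← CohC3.hmap_id (A := k) _ 0 a, ← CohC3.hmap_id (A := k) _ 0 b, h2, CohC3.hmap_zero,
        CohC3.hmap_zero]⟩
    rw [Module.finrank_zero_of_subsingleton] at h0
    exact zero_ne_one h0
  obtain ⟨c, hc⟩ := (finrank_eq_one_iff_of_nonzero' z hz).1 h0 (cls (X := X) (Ext.mk₀ g))
  refine ⟨c, (Ext.mk₀_bijective _ _).1 ((cls_bijective k 0 _).1 ?_)⟩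
  rw [← hc, ← cls_smulMod k c, Ext.mk₀_comp_mk₀, Category.id_comp]

/-- The trace of a connected curve is injective. -/
theorem exists_isRDualOver_injective
    (hdim : topologicalKrullDim X ≤ 1)
    (h0 : Module.finrank k (Coh.HH X (Coh.structureModule X) 0) = 1)
    (h : DCoh.RpushPreservesQCoh (X ↘ Spec (CommRingCat.of k)))
    [DCoh.HasShriek (X ↘ Spec (CommRingCat.of k)) h]
    (OY : DCoh.DQCoh (Spec (CommRingCat.of k)))
    (hOY : Nonempty (OY.obj ≅ DCoh.inD (Spec (CommRingCat.of k))
      (Coh.structureModule (Spec (CommRingCat.of k))))) :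
    ∃ tr : Coh.HH X (DCoh.dualizingMod (X ↘ Spec (CommRingCat.of k)) h OY 1) 1 →ₗ[k] k,
      Canon.IsRDualOver k X 1 (DCoh.dualizingMod (X ↘ Spec (CommRingCat.of k)) h OY 1) tr ∧
        Function.Injective tr := by
  let f := X ↘ Spec (CommRingCat.of k)
  haveI := DerivedCoh.KFlat.hasLpull f
  haveI : HasExt.{u} X.Modules := hasExt_of_enoughInjectives _
  haveI := subsingleton_spec_field k
  have hfib : ∀ P, topologicalKrullDim ↥(f.fiber P) ≤ ((1 : ℕ) : WithBot ℕ∞) := fun P => by
    refine le_trans ?_ hdim
    exact (f.fiberι P).isEmbedding.isInducing.topologicalKrullDim_le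
  obtain ⟨eS⟩ := hOY
  let a := DCoh.shriek f h
  let adj := DCoh.shriekAdj f h
  obtain ⟨tr, htr⟩ := exists_isRDualOver hfib h a adj OY eS
  refine ⟨tr, htr, ?_⟩
  haveI := isGE_shriek hfib h a adj OY eS
  let E := (a.obj OY).obj
  let ω := DCoh.HD E (-((1 : ℕ) : ℤ))
  obtain ⟨ε, hε⟩ := exists_eps (d := 1) a OY
  haveI : IsIso (vn ε) := hε ▸ inferInstance
  -- `End ω` is at most one-dimensional: morphisms killed by the unit vanish
  let tr₀ := (adj.counit.app OY).hom ≫ eS.hom
  let u₀ : O0 k ⟶ (DCoh.Rpush f).obj (S1.obj (Coh.structureModule X)) :=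
    (DerivedCoh.PushPull.lpullRpushAdj f).homEquiv _ _ (eX f).hom
  have key : ∀ x : Ext (Coh.structureModule X) ω 1,
      val (u₀ ≫ (DCoh.Rpush f).map (toDx x ≫ ε) ≫ tr₀) = 0 → x = 0 := by
    intro x hx
    let K := (DCoh.Rpush f).obj (S1.obj (Coh.structureModule X))
    let ψ : K ⟶ O0 k := (DCoh.Rpush f).map (toDx x ≫ ε) ≫ tr₀
    have hq : DCoh.IsQCohD (S1.obj (Coh.structureModule X)) :=
      haveI := Groth.PicAux.isQCoh_structureModule X
      Misc4.QCohDColim.isQCohD_single _ 0
    haveI : K.IsGE 0 := DerivedCoh.PerfPush.isGE_Rpush f _ _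
    have hall : ∀ ξ : O0 k ⟶ K, val (ξ ≫ ψ) = 0 := fun ξ => by
      obtain ⟨y, rfl⟩ := ((DerivedCoh.PushPull.lpullRpushAdj f).homEquiv _ _).surjective ξ
      obtain ⟨w, rfl⟩ : ∃ w, (eX f).hom ≫ w = y := ⟨(eX f).inv ≫ y, by simp⟩
      obtain ⟨g, rfl⟩ := (Functor.FullyFaithful.ofFullyFaithful
        (DerivedCategory.singleFunctor X.Modules 0)).map_bijective _ _ |>.2 w
      obtain ⟨c, rfl⟩ := exists_eq_smulMod h0 g
      have hw : (eX f).hom ≫ (DerivedCategory.singleFunctor X.Modules 0).map
            (Formal.smulMod k (Coh.structureModule X) c) =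
          (DCoh.Lpull f).map (S1.map (Formal.smulModΓ (Coh.structureModule (Spec (CommRingCat.of k)))
            ((Scheme.ΓSpecIso (CommRingCat.of k)).inv c))) ≫ (eX f).hom := (eX_smul f _).symm
      rw [hw, Adjunction.homEquiv_naturality_left, Category.assoc, val_map]
      exact (congrArg (_ ≫ ·) hx).trans comp_zero
    -- `ψ = 0`
    obtain ⟨U, V, hU, hV, i, p, δ, hT⟩ := TStructure.t.exists_triangle K 0 1 rfl
    haveI : U.IsLE 0 := ⟨hU⟩
    haveI : V.IsGE 1 := ⟨hV⟩
    let T := Triangle.mk i p δ
    haveI : U.IsGE 0 := (isGE_iff U 0).2 fun j hj =>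
      (HomologySequence.exact₁ T hT (j - 1) j (by lia)).isZero_of_both_zeros
        ((V.isZero_of_isGE 1 (j - 1) (by lia)).eq_of_src _ _)
        ((K.isZero_of_isGE 0 j hj).eq_of_tgt _ _)
    have hqU : DCoh.IsQCohD U := fun j => isQCoh_spec_field k _
    obtain ⟨ψ', -, hu⟩ := existsUnique_pairing (R := CommRingCat.of k) U hqU 0 0
      (fun r ξ => by simp)
    have hiψ : i ≫ ψ = 0 := (hu (i ≫ ψ) (fun ξ => by rw [← Category.assoc]; exact hall _)).trans
      (hu 0 (fun ξ => by simp [val, ev1, ev])).symm
    obtain ⟨g, hg⟩ := Triangle.yoneda_exact₂ T hT ψ hiψ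
    haveI := injective_structure_spec_field k
    have hψ0 : ψ = 0 := by
      rw [hg, hom_eq_zero_of_isGE_one _ V g]
      exact comp_zero
    have hv : toDx x ≫ ε = 0 := by
      have : (DCoh.Rpush f).Additive := by
        haveI : PreservesLimitsOfSize.{0, 0} (DCoh.Rpush f) :=
          (DerivedCoh.PushPull.lpullRpushAdj f).rightAdjoint_preservesLimits
        exact Functor.additive_of_preserves_binary_products _
      refine (transpose_bijective h a adj OY eS _ hq).1 (hψ0.trans ?_)
      change (0 : K ⟶ O0 k) = (DCoh.Rpush f).map 0 ≫ tr₀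
      rw [Functor.map_zero, zero_comp]
    haveI : (S1.obj (Coh.structureModule X)).IsLE (-((1 : ℕ) : ℤ) + 1) := by
      norm_num
      exact inferInstanceAs (((DerivedCategory.singleFunctor X.Modules 0).obj _).IsLE 0)
    have := comp_eps_injective ε (S1.obj (Coh.structureModule X)) (toDx x) hv
    refine toDx_bijective.1 (this.trans ?_)
    have h2 := toDx_add (0 : Ext (Coh.structureModule X) ω 1) 0
    rw [add_zero, left_eq_add] at h2
    exact h2.symm
  -- hence `H¹(ω)` has dimension at most one
  let Φ : Coh.HH X ω 1 →+ End (Coh.structureModule (Spec (CommRingCat.of k))) :=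
    AddMonoidHom.mk' (fun z => val (u₀ ≫ (DCoh.Rpush f).map
      (toDx ((Equiv.ofBijective _ (cls_bijective k 1 ω)).symm z) ≫ ε) ≫ tr₀)) fun z z' => by
      have : (DCoh.Rpush f).Additive := by
        haveI : PreservesLimitsOfSize.{0, 0} (DCoh.Rpush f) :=
          (DerivedCoh.PushPull.lpullRpushAdj f).rightAdjoint_preservesLimits
        exact Functor.additive_of_preserves_binary_products _
      let c := Equiv.ofBijective _ (cls_bijective k 1 ω)
      have e : c.symm (z + z') = c.symm z + c.symm z' := c.injective (by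
        simp only [c, Equiv.ofBijective_apply, cls_add, Equiv.ofBijective_apply_symm_apply])
      rw [e, toDx_add, Preadditive.add_comp, Functor.map_add, Preadditive.add_comp,
        Preadditive.comp_add, val_add]
  have hΦ : Function.Injective Φ := (injective_iff_map_eq_zero Φ).2 fun z hz => by
    have := key _ hz
    have e := (Equiv.ofBijective _ (cls_bijective k 1 ω)).apply_symm_apply z
    rw [this] at e
    rw [← e]
    have h2 := cls_add (X := X) (0 : Ext (Coh.structureModule X) ω 1) 0
    rw [add_zero, left_eq_add] at h2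
    exact h2
  have hlin : ∀ (c : k) z, toR (Φ (c • z)) = c * toR (Φ z) := fun c z => by
    obtain ⟨x, rfl⟩ := (cls_bijective k 1 ω).2 z
    rw [← cls_smulMod k c x]
    simp only [Φ, AddMonoidHom.mk'_apply, Equiv.ofBijective_symm_apply_apply]
    have hn : ∀ y : Ext (Coh.structureModule X) ω 1,
        u₀ ≫ (DCoh.Rpush f).map (toDx y ≫ ε) ≫ tr₀ =
          hE k y ≫ (DCoh.Rpush f).map ε ≫ tr₀ := fun y => by
      rw [hE, Adjunction.homEquiv_naturality_right, Functor.map_comp, Category.assoc, Category.assoc]
    rw [hn, hn, hE_smul, Category.assoc, val_map, toR_smul]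
    exact congrArg (· * _) (congr($((Scheme.ΓSpecIso (CommRingCat.of k)).inv_hom_id) c))
  let L : Coh.HH X ω 1 →ₗ[k] k :=
    { toFun := fun z => toR (Φ z)
      map_add' := fun z z' => by rw [map_add, map_add]
      map_smul' := hlin }
  have hL : Function.Injective L := toR_bijective.1.comp hΦ
  haveI : Module.Finite k (Coh.HH X ω 1) := Module.Finite.of_injective L hL
  refine fun z z' he => ?_
  by_contra hne
  -- the trace is nonzero as `id` corresponds to it
  have h1 : Module.finrank k (Coh.HH X ω 1) ≤ 1 :=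
    (LinearMap.finrank_le_finrank_of_injective hL).trans (Module.finrank_self k).le
  have hz : z - z' ≠ 0 := sub_ne_zero.2 hne
  haveI : Nontrivial (Coh.HH X ω 1) := ⟨⟨z - z', 0, hz⟩⟩
  have h2 : Module.finrank k (Coh.HH X ω 1) = 1 := le_antisymm h1 Module.finrank_pos
  have htr0 : tr = 0 := LinearMap.ext fun y => by
    obtain ⟨c, rfl⟩ := (finrank_eq_one_iff_of_nonzero' _ hz).1 h2 y
    rw [map_smul, map_sub, he, sub_self, smul_zero, LinearMap.zero_apply]
  have hω : Coh.IsQCoh ω := (a.obj OY).property _
  have hid : (𝟙 ω : ω ⟶ ω) = 0 := (htr.2 ω hω).1 (LinearMap.ext fun y => by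
    change tr (Canon.HHlin k (𝟙 ω) 1 y) = tr (Canon.HHlin k (0 : ω ⟶ ω) 1 y)
    rw [htr0]
    rfl)
  exact hne (by
    rw [← CohC3.hmap_id (A := k) ω 1 z, ← CohC3.hmap_id (A := k) ω 1 z', hid, CohC3.hmap_zero,
      CohC3.hmap_zero])

end Main

end Groth.Duality.ShriekBridge
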