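import Groth.Agent.PnCoh.OverAffine
import Mathlib.AlgebraicGeometry.Morphisms.ClosedImmersion

/-!
# Base change of an embedding into projective space
-/

set_option autoImplicit false
set_option backward.isDefEq.respectTransparency false
set_option linter.style.haveILetI false
set_option maxHeartbeats 1000000
set_option synthInstance.maxHeartbeats 400000

universe u

open CategoryTheory CategoryTheory.Limits AlgebraicGeometry

noncomputable section

namespace Groth.Duality.ShriekBridge

theorem exists_embedding_bc {k K : Type u} [CommRing k] [CommRing K] {n : ℕ} {X X' : Scheme.{u}}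
    {s : X ⟶ Spec (CommRingCat.of k)} {s' : X' ⟶ Spec (CommRingCat.of K)}
    {g : Spec (CommRingCat.of K) ⟶ Spec (CommRingCat.of k)} {p : X' ⟶ X} (sq : IsPullback p s' s g)
    (ι : X ⟶ CohB1.ProjSpace n k) [IsClosedImmersion ι] (hι : ι ≫ CohB1.ProjSpace.toSpec n k = s)
    {L : X.Modules} (e : (Scheme.Modules.pullback ι).obj (Twist.twistProjSpace n k 1) ≅ L) :
    ∃ ι' : X' ⟶ CohB1.ProjSpace n K, IsClosedImmersion ι' ∧
      Nonempty ((Scheme.Modules.pullback ι').obj (Twist.twistProjSpace n K 1) ≅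
        (Scheme.Modules.pullback p).obj L) := by
  let q : CohB1.ProjSpaceOver n (Spec (CommRingCat.of K)) ⟶
      CohB1.ProjSpaceOver n (Spec (CommRingCat.of k)) :=
    pullback.lift (pullback.fst _ _) (CohB1.ProjSpaceOver.toBase n _ ≫ g)
      ((pullback.condition (f := CohB1.ProjSpace.toSpec n (ULift.{u} ℤ))).trans
        (specULiftZIsTerminal.hom_ext _ _))
  have hq : IsPullback q (CohB1.ProjSpaceOver.toBase n (Spec (CommRingCat.of K)))
      (CohB1.ProjSpaceOver.toBase n (Spec (CommRingCat.of k))) g := by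
    refine IsPullback.of_right ?_ (pullback.lift_snd _ _ _) (IsPullback.of_hasPullback _ _)
    rw [pullback.lift_fst, show g ≫ specULiftZIsTerminal.from (Spec (CommRingCat.of k)) =
      specULiftZIsTerminal.from (Spec (CommRingCat.of K)) from specULiftZIsTerminal.hom_ext _ _]
    exact IsPullback.of_hasPullback _ _
  let φ := Groth.PnCoh.overIso n k
  let ψ := Groth.PnCoh.overIso n K
  let a := ι ≫ φ.hom
  have ha : a ≫ CohB1.ProjSpaceOver.toBase n (Spec (CommRingCat.of k)) = s := by
    rw [Category.assoc, Groth.PnCoh.overIso_hom_toBase, hι]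
  let b := hq.lift (p ≫ a) s' (by rw [Category.assoc, ha, sq.w])
  have hb1 : b ≫ q = p ≫ a := hq.lift_fst _ _ _
  have hb2 : b ≫ CohB1.ProjSpaceOver.toBase n (Spec (CommRingCat.of K)) = s' := hq.lift_snd _ _ _
  have sq' : IsPullback p b a q := IsPullback.of_bot (by rw [hb2, ha]; exact sq) hb1.symm hq
  haveI : IsClosedImmersion a := inferInstanceAs (IsClosedImmersion (ι ≫ φ.hom))
  haveI : IsClosedImmersion b := MorphismProperty.of_isPullback (P := @IsClosedImmersion) sq' inferInstance
  refine ⟨b ≫ ψ.inv, inferInstance, ?_⟩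
  obtain ⟨τk⟩ := Groth.PnCoh.nonempty_pullback_overIso_twist n k 1
  obtain ⟨τK⟩ := Groth.PnCoh.nonempty_pullback_overIso_twist n K 1
  let fk := pullback.fst (CohB1.ProjSpace.toSpec n (ULift.{u} ℤ))
    (specULiftZIsTerminal.from (Spec (CommRingCat.of k)))
  let fK := pullback.fst (CohB1.ProjSpace.toSpec n (ULift.{u} ℤ))
    (specULiftZIsTerminal.from (Spec (CommRingCat.of K)))
  have hfst : b ≫ fK = p ≫ a ≫ fk := by
    rw [← Category.assoc p, ← hb1, Category.assoc]
    exact congrArg (b ≫ ·) (pullback.lift_fst _ _ _).symm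
  let T := Twist.twistProjSpace n (ULift.{u} ℤ) 1
  let T1 : (CohB1.ProjSpaceOver n (Spec (CommRingCat.of K))).Modules := Twist.twistOver n _ 1
  let T0 : (CohB1.ProjSpaceOver n (Spec (CommRingCat.of k))).Modules := Twist.twistOver n _ 1
  exact ⟨(Scheme.Modules.pullback (b ≫ ψ.inv)).mapIso τK.symm ≪≫
    (Scheme.Modules.pullbackComp (b ≫ ψ.inv) ψ.hom).app T1 ≪≫
    (Scheme.Modules.pullbackCongr (show (b ≫ ψ.inv) ≫ ψ.hom = b by simp)).app T1 ≪≫
    (Scheme.Modules.pullbackComp b fK).app T ≪≫
    (Scheme.Modules.pullbackCongr hfst).app T ≪≫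
    ((Scheme.Modules.pullbackComp p (a ≫ fk)).app T).symm ≪≫
    (Scheme.Modules.pullback p).mapIso
      (((Scheme.Modules.pullbackComp a fk).app T).symm ≪≫
        ((Scheme.Modules.pullbackComp ι φ.hom).app T0).symm ≪≫
        (Scheme.Modules.pullback ι).mapIso τk ≪≫ e)⟩

end Groth.Duality.ShriekBridge
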