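import Groth.Agent.S6566
import Groth.Agent.EulerDeg.FiniteSupport
import Groth.Agent.QCohMod.Coherent
import Groth.Agent.QCohMod.FTCriterion
import Groth.Agent.CohTwo.CohInduction
import Groth.Agent.Curves1.RR.RankOne

/-!
# Global sections generate onto a finite quotient of an extension of the dualizing module
-/

set_option autoImplicit false
set_option backward.isDefEq.respectTransparency false
set_option linter.style.haveILetI false
set_option maxHeartbeats 1000000
set_option synthInstance.maxHeartbeats 400000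

universe u

open CategoryTheory CategoryTheory.Limits AlgebraicGeometry TopologicalSpace Opposite

noncomputable section

namespace Groth.Duality.ShriekBridge

open Groth.EulerDeg

variable {k : Type u} [Field k] {X : Scheme.{u}} [X.Over (Spec (CommRingCat.of k))]
  [IsProper (X ↘ Spec (CommRingCat.of k))]

omit [IsProper (X ↘ Spec (CommRingCat.of k))] in
/-- A map killing all global sections is zero on `H⁰`. -/
theorem hMap_zero_eq_zero {F G : X.Modules} (φ : F ⟶ G)
    (h : ∀ s : Γ(F, (⊤ : X.Opens)), QCohMod.secHom F s ≫ φ = 0) (v : Coh.HH X F 0) :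
    hMap k φ 0 v = 0 := by
  refine (h0Equiv k G).map_eq_zero_iff.1 ?_
  rw [Groth.Curves1.RR.h0Equiv_hMap]
  have h2 := QCohMod.secHom_app_one F (h0Equiv k F v) ⊤
  rw [QCohMod.res_self] at h2
  rw [← h2, ← ConcreteCategory.comp_apply, ← Scheme.Modules.Hom.comp_app, h]
  rfl

omit [IsProper (X ↘ Spec (CommRingCat.of k))] in
theorem supportedAtClosed_of_mono {M N : X.Modules} (φ : M ⟶ N) [Mono φ]
    (h : SupportedAtClosed N) : SupportedAtClosed M :=
  fun x hx => h x (CohTwo.support_subset_of_mono φ hx)

omit [IsProper (X ↘ Spec (CommRingCat.of k))] in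
theorem supportedAtClosed_of_epi {M N : X.Modules} (φ : M ⟶ N) [Epi φ]
    (h : SupportedAtClosed M) : SupportedAtClosed N :=
  fun x hx => h x (CohTwo.support_subset_of_epi φ hx)

/-- The core of the generation statement, for an abstract dualizing pair. -/
theorem exists_epi_comp (hdim : topologicalKrullDim X ≤ 1)
    {ω F Q : X.Modules} {tr : Coh.HH X ω 1 →ₗ[k] k} (htr : Canon.IsRDualOver k X 1 ω tr)
    (hinj : Function.Injective tr) (hF : Coh.IsCoh F) (hQ : Coh.IsCoh Q) (f : ω ⟶ F) (g : F ⟶ Q)
    [Epi g] (w : f ≫ g = 0) (hex : (ShortComplex.mk f g w).Exact) (hQ0 : SupportedAtClosed Q)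
    (hQ2 : 2 ≤ Module.finrank k (Coh.HH X Q 0))
    (hno : ∀ (Q' : X.Modules) (i : Q' ⟶ F), Coh.IsCoh Q' → Mono i → Mono (i ≫ g) → IsZero Q') :
    Epi (QCohMod.freeHom F (id : Γ(F, (⊤ : X.Opens)) → _) ≫ g) := by
  classical
  haveI := isNoetherian_of_proper k X
  haveI := noetherianSpace_of_proper k X
  haveI := hF.1
  haveI := hQ.1
  let p := QCohMod.freeHom F (id : Γ(F, (⊤ : X.Opens)) → _)
  let c := cokernel.π (p ≫ g)
  have hsec : ∀ s : Γ(F, (⊤ : X.Opens)), QCohMod.secHom F s ≫ g ≫ c = 0 := fun s => by
    rw [show QCohMod.secHom F s = Sigma.ι (fun _ : Γ(F, (⊤ : X.Opens)) => Coh.structureModule X) s ≫ p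
      from (QCohMod.ι_freeHom F id s).symm, Category.assoc, ← Category.assoc p,
      cokernel.condition, comp_zero]
  have hCs : SupportedAtClosed (cokernel (p ≫ g)) := supportedAtClosed_of_epi c hQ0
  haveI : (cokernel (p ≫ g)).IsQuasicoherent := QCohMod.isQCoh_cokernel _
  let F' := kernel (g ≫ c)
  have hF'c : Coh.IsCoh F' := QCohMod.isCoh_kernel (g ≫ c) hF
  let g' : F' ⟶ kernel c := kernel.lift c (kernel.ι (g ≫ c) ≫ g) (by
    rw [Category.assoc, kernel.condition])
  let f' : ω ⟶ F' := kernel.lift (g ≫ c) f (by rw [reassoc_of% w, zero_comp])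
  have w' : f' ≫ g' = 0 := by
    rw [← cancel_mono (kernel.ι c)]
    simp [f', g', w]
  haveI : Epi g' := by
    rw [epi_iff_surjective_up_to_refinements]
    intro A y
    obtain ⟨A', π, hπ, z, hz⟩ := surjective_up_to_refinements_of_epi g (y ≫ kernel.ι c)
    refine ⟨A', π, hπ, kernel.lift (g ≫ c) z (by rw [← reassoc_of% hz]; simp), ?_⟩
    rw [← cancel_mono (kernel.ι c)]
    simpa [g'] using hz
  have hex' : (ShortComplex.mk f' g' w').Exact := by
    rw [ShortComplex.exact_iff_exact_up_to_refinements]
    intro A x hx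
    dsimp at x hx ⊢
    have hx' : (x ≫ kernel.ι (g ≫ c)) ≫ g = 0 := by
      have := congrArg (· ≫ kernel.ι c) hx
      simpa [g'] using this
    obtain ⟨A', π, hπ, y, hy⟩ := hex.exact_up_to_refinements _ hx'
    dsimp at hy
    refine ⟨A', π, hπ, y, ?_⟩
    rw [← cancel_mono (kernel.ι (g ≫ c))]
    simpa [f'] using hy
  have hI1 : Subsingleton (Coh.HH X (kernel c) 1) :=
    subsingleton_HH_of_supportedAtClosed (supportedAtClosed_of_mono (kernel.ι c) hQ0) 1 le_rfl
  rcases Groth.Agent.S6566.aux htr hinj hF'c f' g' w' hex' hI1 with hH1 | ⟨r, hr⟩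
  · -- all of `H⁰` of the cokernel lifts, and is killed
    have hS : (ShortComplex.mk (kernel.ι (g ≫ c)) (g ≫ c) (kernel.condition _)).ShortExact :=
      { exact := ShortComplex.exact_of_f_is_kernel _ (kernelIsKernel _) }
    have hC0 : Subsingleton (Coh.HH X (cokernel (p ≫ g)) 0) := by
      refine (subsingleton_iff_forall_eq 0).2 fun x => ?_
      obtain ⟨v, hv⟩ := (exact_right k hS 0 x).1 (Subsingleton.elim _ _)
      rw [← hv]
      exact hMap_zero_eq_zero (g ≫ c) hsec v
    exact Preadditive.epi_of_cokernel_zero ((isZero_of_subsingleton_H0 hCs hC0).eq_of_tgt _ _)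
  · exfalso
    have hm : Mono ((kernel.ι r ≫ kernel.ι (g ≫ c)) ≫ g) := by
      refine Preadditive.mono_of_cancel_zero _ fun {T} t ht => ?_
      have h2 : (t ≫ kernel.ι r) ≫ g' = 0 := by
        rw [← cancel_mono (kernel.ι c)]
        simpa [g'] using ht
      obtain ⟨A', π, hπ, y, hy⟩ := hex'.exact_up_to_refinements _ h2
      dsimp at hy
      have hy0 : y = 0 := by
        have := congrArg (· ≫ r) hy
        simpa [hr] using this.symm
      rw [hy0, zero_comp, ← Category.assoc] at hy
      exact (cancel_epi π).1 ((cancel_mono (kernel.ι r)).1 (by simpa using hy))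
    haveI := htr.1
    haveI : Mono r := Preadditive.mono_of_kernel_zero
      ((hno _ _ (QCohMod.isCoh_kernel r hF'c) inferInstance hm).eq_of_src _ _)
    have hrf : r ≫ f' = 𝟙 F' := (cancel_mono r).1 (by rw [Category.assoc, hr, Category.comp_id, Category.id_comp])
    have hg'0 : g' = 0 := by
      rw [← Category.id_comp g', ← hrf, Category.assoc, w', comp_zero]
    have hι : kernel.ι c = 0 := by
      rw [← cancel_epi g', hg'0, zero_comp, zero_comp]
    have hpg : p ≫ g = 0 := by
      rw [← kernel.lift_ι c (p ≫ g) (cokernel.condition _), hι, comp_zero]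
    have hg0 : ∀ v, hMap k g 0 v = 0 := hMap_zero_eq_zero g fun s => by
      rw [show QCohMod.secHom F s = Sigma.ι (fun _ : Γ(F, (⊤ : X.Opens)) => Coh.structureModule X) s ≫ p
        from (QCohMod.ι_freeHom F id s).symm, Category.assoc, hpg, comp_zero]
    have hS : (ShortComplex.mk (kernel.ι g) g (kernel.condition _)).ShortExact :=
      { exact := ShortComplex.exact_of_f_is_kernel _ (kernelIsKernel _) }
    have hδ : Function.Injective (hDelta k hS 0) := by
      rw [injective_iff_map_eq_zero]
      intro x hx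
      obtain ⟨v, hv⟩ := (exact_right k hS 0 x).1 hx
      rw [← hv]
      exact hg0 v
    haveI : Epi (kernel.lift g f w) := hex.epi_kernelLift
    have hS' : (ShortComplex.mk (kernel.ι (kernel.lift g f w)) (kernel.lift g f w)
        (kernel.condition _)).ShortExact :=
      { exact := ShortComplex.exact_of_f_is_kernel _ (kernelIsKernel _) }
    haveI := subsingleton_HH_of_dim_le_one X hdim (kernel (kernel.lift g f w)) 2 le_rfl
    have hsurj : Function.Surjective (hMap k (kernel.lift g f w) 1) := fun x =>
      (exact_right k hS' 1 x).1 (Subsingleton.elim _ _)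
    haveI : Module.Finite k (Coh.HH X ω 1) := Module.Finite.of_injective tr hinj
    haveI : Module.Finite k (Coh.HH X (kernel g) 1) := Module.Finite.of_surjective _ hsurj
    have h1 : Module.finrank k (Coh.HH X ω 1) ≤ 1 :=
      (LinearMap.finrank_le_finrank_of_injective hinj).trans (Module.finrank_self k).le
    have h2 := LinearMap.finrank_le_finrank_of_injective hδ
    have h3 : Module.finrank k (Coh.HH X (kernel g) 1) ≤ Module.finrank k (Coh.HH X ω 1) :=
      LinearMap.finrank_le_finrank_of_surjective hsurj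
    have h4 : Module.finrank k (Coh.HH X Q 0) ≤ Module.finrank k (Coh.HH X (kernel g) 1) := h2
    omega

end Groth.Duality.ShriekBridge
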