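import Groth.Agent.Duality.Yoneda
import Groth.Agent.Duality.SheafHomSections
import Groth.Agent.Misc4.StructCompact
import Mathlib.CategoryTheory.Abelian.GrothendieckCategory.EnoughInjectives

/-!
# `Ext(O, F) = H(X, F)`, naturally and linearly
-/

set_option autoImplicit false
set_option backward.isDefEq.respectTransparency false
set_option linter.style.haveILetI false

universe u

open CategoryTheory CategoryTheory.Limits AlgebraicGeometry Opposite
open CategoryTheory.Abelian

noncomputable section

namespace Groth.Duality.ShriekBridge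

open Groth.CohBase (toAbF)

variable (A : Type u) [CommRing A] {X : Scheme.{u}} [X.Over (Spec (CommRingCat.of A))]
  [HasExt.{u} X.Modules]

/-- The unit class. -/
def unitCls : Coh.HH X (Coh.structureModule X) 0 :=
  (SheafHom.h0 (Coh.structureModule X)).symm (PicAux.oneSec X ⊤)

/-- The class of an extension of `O` by `F`. -/
def cls {F : X.Modules} {m : ℕ} (x : Ext (Coh.structureModule X) F m) : Coh.HH X F m :=
  Yoneda.ypair (zero_add m) unitCls x

theorem cls_add {F : X.Modules} {m : ℕ} (x y : Ext (Coh.structureModule X) F m) :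
    cls (x + y) = cls x + cls y := by
  rw [cls, Yoneda.ypair, Ext.mapExactFunctor_add, Ext.comp_add]
  rfl

theorem cls_comp_mk₀ {F G : X.Modules} {m : ℕ} (x : Ext (Coh.structureModule X) F m) (φ : F ⟶ G) :
    cls (x.comp (Ext.mk₀ φ) (add_zero m)) = EulerDeg.hMap A φ m (cls x) := by
  rw [cls, Yoneda.ypair, Ext.mapExactFunctor_comp, Ext.mapExactFunctor_mk₀,
    ← Ext.comp_assoc_of_third_deg_zero]
  rfl

theorem cls_mk₀ {F : X.Modules} (φ : Coh.structureModule X ⟶ F) :
    cls (Ext.mk₀ φ) = (SheafHom.h0 F).symm (φ.app ⊤ (PicAux.oneSec X ⊤)) := by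
  rw [cls, Yoneda.ypair, Ext.mapExactFunctor_mk₀]
  exact Sheaf.H.equiv₀_symm_naturality _ ((toAbF X).map φ) (PicAux.oneSec X ⊤)

theorem cls_bijective_zero (F : X.Modules) :
    Function.Bijective (cls : Ext (Coh.structureModule X) F 0 → Coh.HH X F 0) := by
  have e : (cls : Ext (Coh.structureModule X) F 0 → Coh.HH X F 0) ∘ Ext.mk₀ =
      fun φ => (SheafHom.h0 F).symm (φ.app ⊤ (PicAux.oneSec X ⊤)) := funext cls_mk₀
  refine (Function.Bijective.of_comp_iff _ (Ext.mk₀_bijective _ _)).1 ?_
  rw [e]
  refine (SheafHom.h0 F).symm.bijective.comp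
    ⟨fun a b h => PicAux.hom_structure_ext h, fun s => ?_⟩
  exact ⟨PicAux.homOfSection s, PicAux.homOfSection_one s⟩

theorem cls_comp_extClass {S : ShortComplex X.Modules} (hS : S.ShortExact) {m : ℕ}
    (x : Ext (Coh.structureModule X) S.X₃ m) :
    cls (x.comp hS.extClass rfl) = EulerDeg.hDelta A hS m (cls x) := by
  rw [cls, Yoneda.ypair, Ext.mapExactFunctor_comp, Ext.mapExactFunctor_extClass]
  exact (Ext.comp_assoc _ _ _ (zero_add m) rfl (by omega)).symm

include A in
/-- `Ext(O, F) = H(X, F)`. -/
theorem cls_bijective : ∀ (m : ℕ) (F : X.Modules),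
    Function.Bijective (cls : Ext (Coh.structureModule X) F m → Coh.HH X F m)
  | 0, F => cls_bijective_zero F
  | m + 1, F => by
    let S : ShortComplex X.Modules := ShortComplex.mk (Injective.ι F) (cokernel.π (Injective.ι F))
      (cokernel.condition _)
    have hS : S.ShortExact :=
      { exact := ShortComplex.exact_of_g_is_cokernel S (cokernelIsCokernel _)
        mono_f := inferInstanceAs (Mono (Injective.ι F))
        epi_g := inferInstanceAs (Epi (cokernel.π (Injective.ι F))) }
    haveI hI : Injective S.X₂ := inferInstanceAs (Injective (Injective.under F))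
    have ih := cls_bijective m S.X₃
    have ih2 := cls_bijective m S.X₂
    refine ⟨fun a b hab => ?_, fun y => ?_⟩
    · obtain ⟨w, hw⟩ := Ext.covariant_sequence_exact₁ _ hS (a - b)
        (Ext.eq_zero_of_injective _) rfl
      have h0 : cls (X := X) (a - b) = 0 := by
        have := cls_add (X := X) (a - b) b
        rw [sub_add_cancel] at this
        rwa [hab, eq_comm, add_eq_right] at this
      rw [← hw, cls_comp_extClass A] at h0
      obtain ⟨z, hz⟩ := (EulerDeg.exact_right A hS m (cls w)).1 h0
      obtain ⟨z', rfl⟩ := ih2.2 z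
      have hzw : z'.comp (Ext.mk₀ S.g) (add_zero m) = w :=
        ih.1 ((cls_comp_mk₀ A z' S.g).trans hz)
      refine sub_eq_zero.1 (hw.symm.trans ?_)
      rw [← hzw, Ext.comp_assoc_of_second_deg_zero, hS.comp_extClass, Ext.comp_zero]
    · haveI := Misc4.StructCompact.subsingleton_HH_injective S.X₂ m
      have hy : EulerDeg.hMap A S.f (m + 1) y = 0 := Subsingleton.elim _ _
      obtain ⟨z, hz⟩ := (EulerDeg.exact_left A hS m y).1 hy
      obtain ⟨w, rfl⟩ := ih.2 z
      exact ⟨w.comp hS.extClass rfl, (cls_comp_extClass A hS w).trans hz⟩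

/-- Classes are linear over the base. -/
theorem cls_smulMod {F : X.Modules} {m : ℕ} (a : A) (x : Ext (Coh.structureModule X) F m) :
    cls (x.comp (Ext.mk₀ (Formal.smulMod A F a)) (add_zero m)) = a • cls x :=
  (cls_comp_mk₀ A x _).trans rfl

end Groth.Duality.ShriekBridge
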