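import Groth.Agent.PlaneCurve.HypIdeal
import Groth.Agent.Ega2Proj.TwistPow
import Mathlib.RingTheory.Nullstellensatz
import Mathlib.GroupTheory.CosetCover

/-!
# Separating a closed point from finitely many others by a linear form
-/

set_option autoImplicit false
set_option backward.isDefEq.respectTransparency false
set_option linter.style.haveILetI false
set_option maxHeartbeats 1000000
set_option synthInstance.maxHeartbeats 400000

universe u

open CategoryTheory AlgebraicGeometry TopologicalSpace Opposite MvPolynomial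

noncomputable section

namespace Groth.Duality.Separate

variable {k : Type u} [Field k] [IsAlgClosed k] {n : ℕ}

local notation "𝔓" => CohB1.polyGrading n k
local notation "A₀" => MvPolynomial (Fin (n + 1)) k

theorem exists_point (x : ProjectiveSpectrum 𝔓) (j : Fin (n + 1))
    (hj : (X j : A₀) ∉ x.asHomogeneousIdeal) :
    ∃ b : Fin (n + 1) → k, b j = 1 ∧
      ∀ (g : A₀) (d : ℕ), g ∈ 𝔓 d → g ∈ x.asHomogeneousIdeal.toIdeal → eval b g = 0 := by
  let P := x.asHomogeneousIdeal.toIdeal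
  haveI : P.IsPrime := x.isPrime
  let K := FractionRing (A₀ ⧸ P)
  let π : A₀ →+* K := (algebraMap (A₀ ⧸ P) K).comp (Ideal.Quotient.mk P)
  have hu : π (X j) ≠ 0 := fun h => hj (Ideal.Quotient.eq_zero_iff_mem.1
    ((map_eq_zero_iff _ (IsFractionRing.injective (A₀ ⧸ P) K)).1 h))
  let φ : A₀ →+* K := eval₂Hom (π.comp C) fun l => (π (X j))⁻¹ * π (X l)
  obtain ⟨M, hM, hle⟩ := Ideal.exists_le_maximal (RingHom.ker φ) (RingHom.ker_ne_top φ)
  obtain ⟨b, hb⟩ := MvPolynomial.isMaximal_iff_eq_vanishingIdeal_singleton.mp hM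
  have hval : ∀ g, φ g = 0 → eval b g = 0 := fun g hg => by
    have h1 : g ∈ M := hle hg
    rw [hb] at h1
    simpa using (MvPolynomial.mem_vanishingIdeal_singleton_iff b g).1 h1
  refine ⟨b, sub_eq_zero.1 ?_, fun g d hg hgx => hval g ?_⟩
  · have := hval (X j - 1) (by simp [φ, inv_mul_cancel₀ hu])
    simpa using this
  · refine (Groth.Chow.ToPn.eval₂_scale _ (fun l => π (X l)) (π (X j))⁻¹ hg).trans ?_
    have h1 : eval₂Hom (π.comp C) (fun l => π (X l)) = π :=
      MvPolynomial.ringHom_ext (fun c => by simp) fun l => by simp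
    have h2 : π g = 0 := by
      change algebraMap (A₀ ⧸ P) K (Ideal.Quotient.mk P g) = 0
      rw [Ideal.Quotient.eq_zero_iff_mem.2 hgx, map_zero]
    rw [← coe_eval₂Hom, h1, h2, mul_zero]

/-- A closed point is cut out by linear forms, and separated by one from finitely many others. -/
theorem exists_linearForm_avoid (x : ProjectiveSpectrum 𝔓)
    (hx : IsClosed ({x} : Set (ProjectiveSpectrum 𝔓))) (Z : Set (ProjectiveSpectrum 𝔓))
    (hZ : Z.Finite) (hxZ : x ∉ Z) :
    ∃ f : A₀, f ∈ 𝔓 1 ∧ f ∈ x.asHomogeneousIdeal.toIdeal ∧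
      ∀ z ∈ Z, f ∉ z.asHomogeneousIdeal.toIdeal := by
  classical
  obtain ⟨j, hj⟩ : ∃ j, (X j : A₀) ∉ x.asHomogeneousIdeal.toIdeal := by
    by_contra! hall
    exact x.not_irrelevant_le (Groth.Chow.ToPn.irrelevant_le_span_X.trans
      (Ideal.span_le.2 (by rintro _ ⟨l, rfl⟩; exact hall l)) :
        (HomogeneousIdeal.irrelevant 𝔓).toIdeal ≤ x.asHomogeneousIdeal.toIdeal)
  obtain ⟨b, hbj, hb⟩ := exists_point x j hj
  let θ : A₀ →+* Polynomial k := eval₂Hom Polynomial.C fun l => Polynomial.X * Polynomial.C (b l)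
  have hθh : ∀ (g : A₀) (d : ℕ), g ∈ 𝔓 d → eval b g = 0 → θ g = 0 := fun g d hg h0 => by
    refine (Groth.Chow.ToPn.eval₂_scale _ (fun l => Polynomial.C (b l)) Polynomial.X hg).trans ?_
    rw [show (fun l => Polynomial.C (b l)) = Polynomial.C ∘ b from rfl, ← eval₂_comp, h0, map_zero, mul_zero]
  haveI : (RingHom.ker θ).IsPrime := RingHom.ker_isPrime θ
  let Y : HomogeneousIdeal 𝔓 := (RingHom.ker θ).homogeneousCore 𝔓
  have hY : ∀ (g : A₀) (d : ℕ), g ∈ 𝔓 d → θ g = 0 → g ∈ Y.toIdeal := fun g d hg h =>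
    Ideal.mem_homogeneousCore_of_homogeneous_of_mem ⟨d, hg⟩ h
  have hY' : Y.toIdeal ≤ RingHom.ker θ := Ideal.toIdeal_homogeneousCore_le _ _
  have hxY : x.asHomogeneousIdeal.toIdeal ≤ Y.toIdeal := fun g hg => by
    rw [← DirectSum.sum_support_decompose 𝔓 g]
    refine Ideal.sum_mem _ fun d _ => ?_
    have hd := x.asHomogeneousIdeal.isHomogeneous d hg
    exact hY _ d (SetLike.coe_mem _) (hθh _ d (SetLike.coe_mem _) (hb _ d (SetLike.coe_mem _) hd))
  have hjY : (X j : A₀) ∉ Y.toIdeal := fun h => by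
    have := congrArg (Polynomial.coeff · 1) (RingHom.mem_ker.1 (hY' h))
    simp [θ, hbj] at this
  let y : ProjectiveSpectrum 𝔓 := ⟨Y, Ideal.IsPrime.homogeneousCore inferInstance,
    fun h => hjY (h (HomogeneousIdeal.mem_irrelevant_of_mem 𝔓 one_pos (Groth.Chow.ToPn.X_mem j)))⟩
  have hyx : y = x := by
    have : y ∈ closure ({x} : Set (ProjectiveSpectrum 𝔓)) :=
      (ProjectiveSpectrum.le_iff_mem_closure 𝔓 x y).1
        ((ProjectiveSpectrum.as_ideal_le_as_ideal 𝔓 x y).1 hxY)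
    rwa [hx.closure_eq, Set.mem_singleton_iff] at this
  let v : Fin (n + 1) → A₀ := fun l => X l - C (b l) * X j
  have hv1 : ∀ l, v l ∈ 𝔓 1 := fun l =>
    Submodule.sub_mem _ (Groth.Chow.ToPn.X_mem l)
      (by simpa [MvPolynomial.smul_eq_C_mul] using Submodule.smul_mem _ (b l) (Groth.Chow.ToPn.X_mem (R := k) j))
  have hvx : ∀ l, v l ∈ x.asHomogeneousIdeal.toIdeal := fun l => by
    rw [← hyx]
    exact hY _ 1 (hv1 l) (hθh _ 1 (hv1 l) (by simp [v, hbj]))
  let Φ := Fintype.linearCombination k v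
  have hproper : ∀ z ∈ Z, Submodule.comap Φ (z.asHomogeneousIdeal.toIdeal.restrictScalars k) ≠ ⊤ := by
    intro z hz htop
    have hall : ∀ l, v l ∈ z.asHomogeneousIdeal.toIdeal := fun l => by
      have := htop.ge (Submodule.mem_top (x := Pi.single l (1 : k)))
      simpa [Φ, Fintype.linearCombination_apply_single] using this
    let Q := z.asHomogeneousIdeal.toIdeal
    have hmk : ∀ l, Ideal.Quotient.mk Q (X l) = Ideal.Quotient.mk Q (C (b l) * X j) := fun l =>
      (Ideal.Quotient.eq).2 (hall l)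
    by_cases hjz : (X j : A₀) ∈ Q
    · refine z.not_irrelevant_le (Groth.Chow.ToPn.irrelevant_le_span_X.trans
        (Ideal.span_le.2 ?_) : (HomogeneousIdeal.irrelevant 𝔓).toIdeal ≤ Q)
      rintro _ ⟨l, rfl⟩
      refine Ideal.Quotient.eq_zero_iff_mem.1 ?_
      rw [hmk l, map_mul, Ideal.Quotient.eq_zero_iff_mem.2 hjz, mul_zero]
    · have hle : Y.toIdeal ≤ Q := fun g hg => by
        refine Ideal.Quotient.eq_zero_iff_mem.1 ?_
        have e : ((Polynomial.eval₂RingHom ((Ideal.Quotient.mk Q).comp C)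
            (Ideal.Quotient.mk Q (X j))).comp θ) = Ideal.Quotient.mk Q :=
          MvPolynomial.ringHom_ext (fun c => by simp [θ]) fun l => by
            rw [hmk l]
            simp only [θ, RingHom.comp_apply, eval₂Hom_X', Polynomial.coe_eval₂RingHom,
              Polynomial.eval₂_X, Polynomial.eval₂_C, map_mul]
            exact mul_comm _ _
        rw [← e, RingHom.comp_apply, RingHom.mem_ker.1 (hY' hg), map_zero]
      have : z ∈ closure ({y} : Set (ProjectiveSpectrum 𝔓)) :=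
        (ProjectiveSpectrum.le_iff_mem_closure 𝔓 y z).1
          ((ProjectiveSpectrum.as_ideal_le_as_ideal 𝔓 y z).1 hle)
      rw [hyx, hx.closure_eq, Set.mem_singleton_iff] at this
      exact hxZ (this ▸ hz)
  haveI := hZ.to_subtype
  have hcov : ⋃ z : Z, (Submodule.comap Φ (z.1.asHomogeneousIdeal.toIdeal.restrictScalars k) :
      Set (Fin (n + 1) → k)) ≠ Set.univ := fun h => by
    obtain ⟨z, hz⟩ := Subspace.exists_eq_top_of_iUnion_eq_univ h
    exact hproper z.1 z.2 hz
  obtain ⟨c, hc⟩ := (Set.ne_univ_iff_exists_notMem _).1 hcov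
  refine ⟨Φ c, ?_, ?_, fun z hz hmem => hc (Set.mem_iUnion.2 ⟨⟨z, hz⟩, hmem⟩)⟩
  · rw [Fintype.linearCombination_apply]
    exact Submodule.sum_mem _ fun l _ => Submodule.smul_mem _ _ (hv1 l)
  · rw [Fintype.linearCombination_apply]
    refine Ideal.sum_mem _ fun l _ => ?_
    rw [Algebra.smul_def]
    exact Ideal.mul_mem_left _ _ (hvx l)

omit [IsAlgClosed k] in
/-- The locus of a linear form as a section of `O(1)`. -/
theorem mem_gloc_formSec (f : LefPen.Form n k 1) (x : ProjectiveSpectrum 𝔓) :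
    x ∈ Groth.PropsBasic.Ample.gloc (PlaneCurve.formSec f) ↔
      (f : A₀) ∉ x.asHomogeneousIdeal.toIdeal := by
  open Groth.PicAux Groth.PropsBasic.Ample Groth.Ega2Proj in
  constructor
  · intro hx
    obtain ⟨j, hj⟩ : ∃ j, x ∈ LefPen.chart n k j := Opens.mem_iSup.1
      ((Proj.iSup_basicOpen_eq_top 𝔓 (fun l : Fin (n + 1) => (X l : A₀))
        Groth.Chow.ToPn.irrelevant_le_span_X).ge (Set.mem_univ x))
    let V := gloc (PlaneCurve.formSec f) ⊓ LefPen.chart n k j
    have hxV : x ∈ V := ⟨hx, hj⟩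
    obtain ⟨c, hc⟩ := (gen_gloc (PlaneCurve.formSec f) le_rfl).exists_coeff (V := V) inf_le_left
      (res _ (inf_le_right : V ≤ LefPen.chart n k j) (PlaneCurve.frame j 1))
    have h1 := congrArg (fun s => wval s x hxV) hc
    rw [wval_smul] at h1
    intro hfx
    have hu0 : IsUnit (wval (PlaneCurve.frame (k := k) j 1) x hj) := by
      unfold PlaneCurve.frame
      exact Eq.mpr (congrArg IsUnit (wval_pwSec _ _ _ _ x hj)) (Units.isUnit _)
    have hu : IsUnit (wval (res _ (inf_le_right : V ≤ LefPen.chart n k j)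
        (PlaneCurve.frame j 1)) x hxV) :=
      Eq.mpr (congrArg IsUnit (wval_res _ _ x hxV)) hu0
    have hu' : IsUnit (algebraMap A₀ (Twist.Loc 𝔓 x) (f : A₀)) :=
      Eq.mp (congrArg IsUnit (((wval_res _ _ x hxV).trans (wval_res _ _ x hx)).trans
        (Localization.mk_one_eq_algebraMap (f : A₀))))
        (isUnit_of_mul_isUnit_right (Eq.mp (congrArg IsUnit h1) hu))
    exact (IsLocalization.AtPrime.isUnit_to_map_iff _ x.asHomogeneousIdeal.toIdeal _).1 hu' hfx
  · intro hfx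
    let W : (CohB1.ProjSpace n k).Opens := Proj.basicOpen 𝔓 (f : A₀)
    have hxW : x ∈ W := hfx
    refine le_gloc (V := W) ?_ hxW
    have e : res _ (le_top : W ≤ ⊤) (PlaneCurve.formSec f) =
        pwSec (𝒜 := 𝔓) f.2 (1 : ℤ) (N := ((1 : ℕ) : ℤ)) (U := W) (by simp) (fun _ h => h) := by
      refine wval_ext fun z hz => ?_
      refine (wval_res _ _ z hz).trans ?_
      refine Eq.trans ?_ (wval_pwSec _ _ _ _ z hz).symm
      rw [zpow_one, coe_funit]
      exact Localization.mk_one_eq_algebraMap (f : A₀)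
    rw [e]
    exact gen_pwSec _ _ _ _

omit [IsAlgClosed k] in
theorem exists_gloc_eq {X Y : Scheme.{u}} (ι : X ⟶ Y) {M : Y.Modules} (hM : PicF.IsInvertible M)
    {L : X.Modules} (e : (Scheme.Modules.pullback ι).obj M ≅ L) (s : Γ(M, (⊤ : Y.Opens))) :
    ∃ t : Γ(L, (⊤ : X.Opens)),
      Groth.PropsBasic.Ample.gloc t = ι ⁻¹ᵁ Groth.PropsBasic.Ample.gloc s :=
  ⟨e.hom.app ⊤ (Groth.PicAux.pullSec ι M s),
    (Groth.PropsBasic.Ample.gloc_map e.hom _).trans (Groth.PropsBasic.Ample.gloc_pullSec ι hM s)⟩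

/-- A closed point of a closed subscheme of projective space is separated from finitely many
other points by a section of `O(1)`. -/
theorem exists_section_avoid {X : Scheme.{u}} (ι : X ⟶ CohB1.ProjSpace n k) [IsClosedImmersion ι]
    {L : X.Modules}
    (e : (Scheme.Modules.pullback ι).obj (Twist.twistProjSpace n k 1) ≅ L)
    (x : X) (hx : IsClosed ({x} : Set X)) (Z : Set X) (hZ : Z.Finite) (hxZ : x ∉ Z) :
    ∃ t : Γ(L, (⊤ : X.Opens)), x ∉ Groth.PropsBasic.Ample.gloc t ∧
      ∀ z ∈ Z, z ∈ Groth.PropsBasic.Ample.gloc t := by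
  have hcl : IsClosed ({ι x} : Set (CohB1.ProjSpace n k)) := by
    rw [← Set.image_singleton]
    exact ι.isClosedEmbedding.isClosedMap _ hx
  obtain ⟨f, hf1, hfx, hfZ⟩ := exists_linearForm_avoid (ι x) hcl (ι '' Z) (hZ.image _)
    (fun h => hxZ (by
      obtain ⟨z, hz, he⟩ := h
      exact ι.isClosedEmbedding.injective he ▸ hz))
  have hT := PlaneCurve.isInvertible_twistProjSpace (r := n) (k := k) ((1 : ℕ) : ℤ)
  obtain ⟨t, hg⟩ := exists_gloc_eq ι (M := Twist.twistProjSpace n k ((1 : ℕ) : ℤ)) hT e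
    (PlaneCurve.formSec ⟨f, hf1⟩)
  refine ⟨t, ?_, fun z hz => ?_⟩
  all_goals rw [hg]
  · exact fun h => (mem_gloc_formSec ⟨f, hf1⟩ (ι x)).1 h hfx
  · exact (mem_gloc_formSec ⟨f, hf1⟩ (ι z)).2 (hfZ _ ⟨z, hz, rfl⟩)

end Groth.Duality.Separate
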