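import Groth.Agent.Duality.ShriekBridge.Curve
import Groth.Agent.Duality.RDualPairs
import Groth.Agent.Duality.SheafHomSections
import Groth.Agent.Duality.SheafHomTwist
import Groth.Agent.EulerDeg.GenericRank
import Groth.Agent.EulerDeg.LineBundle
import Groth.Agent.VarietyBC.CurveDeg

/-!
# `h¹(L⁻¹) = h⁰(ω ⊗ L)` and the generic rank of a dualizing module
-/

set_option autoImplicit false
set_option backward.isDefEq.respectTransparency false
set_option linter.style.haveILetI false
set_option maxHeartbeats 1000000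
set_option synthInstance.maxHeartbeats 400000

universe u

open CategoryTheory CategoryTheory.Limits AlgebraicGeometry TopologicalSpace Opposite

noncomputable section

namespace Groth.Duality.ShriekBridge

open Groth.EulerDeg

variable {k : Type u} [Field k] {X : Scheme.{u}} [X.Over (Spec (CommRingCat.of k))]
  {r : ℕ} {ω : X.Modules} {tr : Coh.HH X ω r →ₗ[k] k}

/-- The duality map, linearly. -/
def dualityLin (htr : Canon.IsRDualOver k X r ω tr) {F : X.Modules} (hF : Coh.IsQCoh F) :
    (F ⟶ ω) ≃ₗ[k] (Coh.HH X F r →ₗ[k] k) :=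
  LinearEquiv.ofBijective
    { toFun := Canon.dualityMap k X r ω tr F
      map_add' := fun φ ψ => LinearMap.ext fun x => by
        change tr (Canon.HHlin k (φ + ψ) r x) = tr (Canon.HHlin k φ r x) + tr (Canon.HHlin k ψ r x)
        rw [← map_add]
        exact congrArg tr (Groth.Curves1.RR.hMap_add k φ ψ r x)
      map_smul' := fun a φ => LinearMap.ext fun x => by
        change tr (Canon.HHlin k (Formal.smulMod k F a ≫ φ) r x) = a * tr (Canon.HHlin k φ r x)
        rw [Groth.Duality.RDual.HHlin_comp]
        change tr (Canon.HHlin k φ r (a • x)) = _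
        rw [map_smul, map_smul, smul_eq_mul] }
    (htr.2 F hF)

/-- `hʳ(F) = h⁰(Hom(F, ω))`. -/
theorem finrank_HH_eq_sheafHom (htr : Canon.IsRDualOver k X r ω tr) {F : X.Modules}
    (hF : Coh.IsQCoh F) [DCoh.HasSheafHom F] :
    Module.finrank k (Coh.HH X F r) = Module.finrank k (Coh.HH X ((DCoh.sheafHom F).obj ω) 0) := by
  rw [← (Groth.Duality.SheafHom.homH0 F k ω).finrank_eq, (dualityLin htr hF).finrank_eq]
  exact Subspace.dual_finrank_eq.symm

/-- `hʳ(M) = h⁰(ω ⊗ L)` for mutually inverse `M`, `L`. -/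
theorem finrank_HH_eq_twist (htr : Canon.IsRDualOver k X r ω tr) {L M : X.Modules}
    (hM : Coh.IsQCoh M) (h : ClSub.IsInverseOf M L) :
    Module.finrank k (Coh.HH X M r) = Module.finrank k (Coh.HH X (CohB1.tensorMod ω L) 0) := by
  haveI := Groth.Duality.SheafHom.hasSheafHom M
  rw [finrank_HH_eq_sheafHom htr hM]
  exact (hEquiv k ((Groth.Duality.SheafHom.sheafHomIsoTensor h).app ω) 0).finrank_eq

variable [IsProper (X ↘ Spec (CommRingCat.of k))] [IsIntegral X]

/-- On an integral curve with an invertible module of positive degree, a coherent dualizing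
module has generic rank at most one. -/
theorem finrank_genericPoint_le_one (hdim : topologicalKrullDim X ≤ 1) {ω : X.Modules}
    {tr : Coh.HH X ω 1 →ₗ[k] k} (htr : Canon.IsRDualOver k X 1 ω tr) (hω : Coh.IsCoh ω)
    {L : X.Modules} (hL : PicF.IsInvertible L) (hd : 0 < Curv2.deg k X L 1) :
    Module.finrank (X.presheaf.stalk (genericPoint X)) (ω.presheaf.stalk (genericPoint X)) ≤ 1 := by
  by_contra hr
  let c : ℤ := Curv2.euler k X ω + Curv2.euler k X (Coh.structureModule X)
  obtain ⟨N, hN1, hN⟩ : ∃ N : ℕ, 1 ≤ N ∧ -c < (N : ℤ) :=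
    ⟨(-c).toNat + 1, by omega, by omega⟩
  obtain ⟨M, hM, hLM⟩ := Groth.PicAux.exists_isInverseOf hL
  have hP := Groth.PicAux.isInvertible_tensorPow hL N
  have hP' := Groth.PicAux.isInvertible_tensorPow hM N
  have hPP' := Groth.PicAux.isInverseOf_tensorPow hLM N
  generalize hPd : CohB1.tensorPow L N = P at hP hPP'
  generalize hPd' : CohB1.tensorPow M N = P' at hP' hPP'
  have hdP : Curv2.deg k X P 1 = N * Curv2.deg k X L 1 := by
    rw [← hPd]
    exact Groth.VarietyBC.CurveDeg.deg_tensorPow k hdim hL N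
  have hdP' : Curv2.deg k X P' 1 = -(N * Curv2.deg k X L 1) := by
    have h := Groth.EulerDeg.deg_tensor_invertible k hdim hP hP'
    obtain ⟨e⟩ := hPP'
    rw [show Curv2.deg k X (CohB1.tensorMod P P') 1 = Curv2.deg k X (Coh.structureModule X) 1 from by
      unfold Curv2.deg
      rw [euler_congr k e], Groth.EulerDeg.deg_structure] at h
    omega
  have hneg : Curv2.deg k X P' 1 < 0 := by
    rw [hdP']
    have : (0 : ℤ) < N * Curv2.deg k X L 1 := mul_pos (by omega) hd
    omega
  haveI := isNoetherian_of_proper k X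
  have hz : Subsingleton (Coh.HH X P' 0) := by
    refine (subsingleton_iff_forall_eq 0).2 fun x => ?_
    by_contra hx
    have hne : Groth.PicAux.homOfSection (h0Equiv k P' x) ≠ 0 := fun h0 => hx (by
      refine (h0Equiv k P').map_eq_zero_iff.1 ?_
      rw [← Groth.PicAux.homOfSection_one (h0Equiv k P' x), h0]
      rfl)
    have := (deg_le_and_isIso (k := k) (isInvertible_structureModule X) hP' hne hdim).1
    rw [Groth.EulerDeg.deg_structure] at this
    omega
  have h1 := euler_eq_h0_sub_h1 k X hdim P'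
  rw [Module.finrank_zero_of_subsingleton, finrank_HH_eq_twist htr (isCoh_of_isInvertible hP').1
    (Groth.PicAux.isInverseOf_symm hPP')] at h1
  have h2 := euler_eq_h0_sub_h1 k X hdim (CohB1.tensorMod ω P)
  have h3 := euler_tensor_curve k hdim (LocFree.isInvertible_iff_ofRank_one.mp hP) hω
  obtain ⟨b, -⟩ := Groth.PicAux.exists_braiding ω P
  rw [euler_congr k b] at h2
  rw [h3] at h2
  have h4 : Curv2.euler k X P' = Curv2.deg k X P' 1 + Curv2.euler k X (Coh.structureModule X) := by
    simp only [Curv2.deg]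
    ring
  rw [hdP] at h2
  rw [h4, hdP'] at h1
  have h5 : (2 : ℤ) * (N * Curv2.deg k X L 1) ≤
      (Module.finrank (X.presheaf.stalk (genericPoint X)) (ω.presheaf.stalk (genericPoint X)) : ℤ) *
        (N * Curv2.deg k X L 1) := by
    refine mul_le_mul_of_nonneg_right ?_ (by positivity)
    omega
  have h6 : (N : ℤ) ≤ N * Curv2.deg k X L 1 := le_mul_of_one_le_right (by omega) (by omega)
  push_cast at h1 h2
  omega

end Groth.Duality.ShriekBridge
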