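import Groth.Agent.S6538
import Groth.Agent.Duality.ShriekBridge.Generate
import Groth.Agent.Duality.ShriekBridge.TwistDual
import Groth.Agent.Duality.ShriekBridge.Separate
import Groth.Agent.ResPropLib.StalkTools
import Groth.Agent.DualMod.Finite
import Groth.Agent.DualMod.RepRel

/-!
# `ω ⊗ L` is globally generated for very ample `L` of degree at least two, algebraically closed case
-/

set_option autoImplicit false
set_option backward.isDefEq.respectTransparency false
set_option linter.style.haveILetI false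
set_option maxHeartbeats 1000000
set_option synthInstance.maxHeartbeats 400000

universe u

open CategoryTheory CategoryTheory.Limits AlgebraicGeometry TopologicalSpace Opposite

noncomputable section

namespace Groth.Duality.ShriekBridge

open Groth.EulerDeg
open Groth.PicAux (tmulSec)
open Groth.PropsBasic.Ample (gloc gloc_inf_eq_basicOpen)

variable {k : Type u} [Field k] {X : Scheme.{u}} [X.Over (Spec (CommRingCat.of k))]
  [IsProper (X ↘ Spec (CommRingCat.of k))]

omit [IsProper (X ↘ Spec (CommRingCat.of k))] in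
/-- A module without `H¹` has no maps to a one-dualizing module. -/
theorem hom_eq_zero_of_subsingleton {ω : X.Modules} {tr : Coh.HH X ω 1 →ₗ[k] k}
    (htr : Canon.IsRDualOver k X 1 ω tr) {M : X.Modules} (hM : Coh.IsQCoh M)
    (h1 : Subsingleton (Coh.HH X M 1)) (φ : M ⟶ ω) : φ = 0 :=
  (htr.2 M hM).1 (LinearMap.ext fun x => by rw [Subsingleton.elim x 0, map_zero, map_zero])

include k in
/-- No maps from modules supported at closed points into twists of a dualizing module. -/
theorem hom_twist_eq_zero {ω : X.Modules} {tr : Coh.HH X ω 1 →ₗ[k] k}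
    (htr : Canon.IsRDualOver k X 1 ω tr) {L : X.Modules} (hL : PicF.IsInvertible L)
    {M : X.Modules} (hM : Coh.IsQCoh M) (hs : SupportedAtClosed M)
    (φ : M ⟶ CohB1.tensorMod ω L) : φ = 0 := by
  haveI := noetherianSpace_of_proper k X
  obtain ⟨L', hL', h⟩ := Groth.PicAux.exists_isInverseOf hL
  haveI := Groth.PicAux.isEquivalence_tensorRightMod (Groth.PicAux.isInverseOf_symm h)
  haveI : M.IsQuasicoherent := hM
  haveI := Groth.PicAux.isQCoh_of_isInvertible hL'
  have hq : Coh.IsQCoh (CohB1.tensorMod M L') := QCohMod.isQCoh_tensorMod (M := M) (N := L')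
  have hs' : SupportedAtClosed (CohB1.tensorMod M L') := by
    obtain ⟨b, -⟩ := Groth.PicAux.exists_braiding M L'
    exact fun x hx => hs x (Groth.ResPropLib.support_tensorMod_subset L' M
      (CohTwo.support_subset_of_mono b.hom hx))
  let e : (DCoh.tensorRightMod L').obj (CohB1.tensorMod ω L) ≅ ω :=
    (Groth.PicAux.exists_associator ω L L').choose ≪≫
      PicGrp.tensorModIso (Iso.refl ω) h.some ≪≫ SecTwist.unitorR ω
  have h0 := hom_eq_zero_of_subsingleton htr hq
    (subsingleton_HH_of_supportedAtClosed hs' 1 le_rfl) ((DCoh.tensorRightMod L').map φ ≫ e.hom)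
  refine (DCoh.tensorRightMod L').map_injective ?_
  rw [Functor.map_zero]
  exact (cancel_mono e.hom).1 (h0.trans zero_comp.symm)

theorem genQuot [IsAlgClosed k] (hdim : topologicalKrullDim X = 1)
    (h0 : Module.finrank k (Coh.HH X (Coh.structureModule X) 0) = 1)
    {ω : X.Modules} {tr : Coh.HH X ω 1 →ₗ[k] k} (htr : Canon.IsRDualOver k X 1 ω tr)
    (hinj : Function.Injective tr) {L : X.Modules} (hL : PicF.IsInvertible L) {n : ℕ}
    (ι : X ⟶ CohB1.ProjSpace n k) [IsClosedImmersion ι]
    (e : (Scheme.Modules.pullback ι).obj (Twist.twistProjSpace n k 1) ≅ L)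
    (hdeg : 2 ≤ Curv2.deg k X L 1) :
    Curv2.IsGloballyGenerated (CohB1.tensorMod ω L) := by
  classical
  haveI := isNoetherian_of_proper k X
  haveI := noetherianSpace_of_proper k X
  haveI : ω.IsQuasicoherent := htr.1
  haveI : X.IsSeparated := CohFin.isSeparated_of_proper (X ↘ Spec (CommRingCat.of k))
  have hpair : Groth.DualMod.IsDualPair k ω tr := ⟨htr.1, fun F hF ψ => by
    obtain ⟨φ, hφ, hu⟩ := (Function.bijective_iff_existsUnique _).1 (htr.2 F hF) ψ
    exact ⟨φ, fun x => (LinearMap.congr_fun hφ x).symm,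
      fun φ' hφ' => hu φ' (LinearMap.ext fun x => (hφ' x).symm)⟩⟩
  have hω : Coh.IsCoh ω := Groth.DualMod.isCoh_dualPair hdim.le hpair
  have hLc := isCoh_of_isInvertible hL
  haveI := hLc.1
  have hF : Coh.IsCoh (CohB1.tensorMod ω L) := isCoh_tensor hω hLc
  haveI := hF.1
  set F := CohB1.tensorMod ω L with hFdef
  have hconn : ∀ C : Set X, IsClopen C → C = ∅ ∨ C = Set.univ :=
    fun C hC => eq_empty_or_univ_of_isClopen h0 hC
  -- the twist is generated by sections
  have hgg : Curv2.IsGloballyGenerated L := by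
    refine Groth.Chow.isGloballyGenerated_of_cover (ι := Γ(L, (⊤ : X.Opens))) (fun t => t) ?_
    refine eq_top_iff.2 fun y _ => ?_
    obtain ⟨j, hj⟩ := Opens.mem_iSup.1
      ((Proj.iSup_basicOpen_eq_top (CohB1.polyGrading n k)
        (fun l : Fin (n + 1) => (MvPolynomial.X l : MvPolynomial (Fin (n + 1)) k))
        Groth.Chow.ToPn.irrelevant_le_span_X).ge (Set.mem_univ (ι y)))
    obtain ⟨t, ht⟩ := Separate.exists_gloc_eq ι
      (M := Twist.twistProjSpace n k ((1 : ℕ) : ℤ))
      (PlaneCurve.isInvertible_twistProjSpace (r := n) (k := k) _) e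
      (PlaneCurve.formSec ⟨MvPolynomial.X j, Groth.Chow.ToPn.X_mem j⟩)
    refine Opens.mem_iSup.2 ⟨t, ?_⟩
    rw [ht]
    exact (Separate.mem_gloc_formSec _ (ι y)).2 hj
  have hnt : IsEmpty (L ≅ Coh.structureModule X) := ⟨fun i => by
    have h2 : Curv2.deg k X L 1 = 0 := by
      rw [show Curv2.deg k X L 1 = Curv2.deg k X (Coh.structureModule X) 1 from by
        unfold Curv2.deg; rw [euler_congr k i], deg_structure]
    omega⟩
  have hF1 : Subsingleton (Coh.HH X F 1) :=
    Groth.Agent.S6538.aux hdim h0 htr hinj hL hgg hnt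
  let p := QCohMod.freeHom F (id : Γ(F, (⊤ : X.Opens)) → _)
  haveI : (∐ fun _ : Γ(F, (⊤ : X.Opens)) => Coh.structureModule X).IsQuasicoherent :=
    QCohMod.isQCoh_sigma _
  haveI : (cokernel p).IsQuasicoherent := QCohMod.isQCoh_cokernel p
  have hC : Coh.IsCoh (cokernel p) := QCohMod.isCoh_cokernel p hF
  suffices key : ∀ x : X, IsClosed ({x} : Set X) → x ∉ CohB1.support (cokernel p) by
    refine ⟨_, p, Preadditive.epi_of_cokernel_zero (IsZero.eq_of_tgt ?_ _ _)⟩
    rw [QCohMod.isZero_iff_support_eq_empty, Set.eq_empty_iff_forall_notMem]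
    intro y hy
    haveI : CompactSpace X := compactSpace_of_proper k X
    obtain ⟨x, hx, hxc⟩ := (CohC3.isClosed_support_of_isCoh _ hC).exists_closed_singleton ⟨y, hy⟩
    exact key x hxc hx
  intro x hx
  -- the section through `x`
  let Z : Set X := {z | ¬ IsClosed ({z} : Set X)}
  have hZ : Z.Finite := @finite_not_isClosed X.toTopCat ‹NoetherianSpace X›
    (inferInstanceAs (T0Space X)) (inferInstanceAs (QuasiSober X)) hdim.le
  obtain ⟨t, hxt, hZt⟩ := Separate.exists_section_avoid ι e x hx Z hZ (fun h => h hx)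
  obtain ⟨f, hf⟩ := Groth.VarietyBC.NegTwistH1.exists_twistHom ω t
  have hbij : ∀ z ∈ Z, Function.Bijective ((QCohMod.stalk z).map f) := fun z hz =>
    LimKoszul.bijective_stalk_mulHom f t hf z (hZt z hz)
  have hK : SupportedAtClosed (kernel f) ∧ SupportedAtClosed (cokernel f) :=
    supportedAtClosed_of_bijective f fun z hz => hbij z hz
  haveI : Mono f := by
    refine Preadditive.mono_of_kernel_zero (hom_eq_zero_of_subsingleton htr
      (QCohMod.isQCoh_kernel f) (subsingleton_HH_of_supportedAtClosed hK.1 1 le_rfl) _)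
  let g := cokernel.π f
  have w : f ≫ g = 0 := cokernel.condition f
  have hQ : Coh.IsCoh (cokernel f) := QCohMod.isCoh_cokernel f hF
  have hS : (ShortComplex.mk f g w).ShortExact := { exact := ShortComplex.exact_cokernel f }
  have hno : ∀ (Q' : X.Modules) (i : Q' ⟶ F), Coh.IsCoh Q' → Mono i → Mono (i ≫ g) → IsZero Q' :=
    fun Q' i hc hi hm => by
      haveI := hm
      have h0' := hom_twist_eq_zero htr hL hc.1 (supportedAtClosed_of_mono (i ≫ g) hK.2) i
      refine (IsZero.iff_id_eq_zero Q').2 ?_
      haveI := hi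
      rw [← cancel_mono i, h0', comp_zero, comp_zero]
  -- enough sections in the quotient
  have hω1 : Module.finrank k (Coh.HH X ω 1) = 1 := by
    haveI : Module.Finite k (Coh.HH X ω 1) := finite_HH k X hω 1
    refine le_antisymm ((LinearMap.finrank_le_finrank_of_injective hinj).trans
      (Module.finrank_self k).le) (Nat.pos_of_ne_zero fun hz => ?_)
    have h1 : Subsingleton (Coh.HH X ω 1) := Module.finrank_zero_iff.1 hz
    have hid := hom_eq_zero_of_subsingleton htr htr.1 h1 (𝟙 ω)
    obtain ⟨η, hη, hηc⟩ := exists_specializes_not_isClosed hconn hdim x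
    have hsup := nontrivial_stalk_of_isRDualOver hdim.le htr hη hηc
    rw [(QCohMod.isZero_iff_support_eq_empty ω).1 ((IsZero.iff_id_eq_zero ω).2 hid)] at hsup
    exact hsup
  have hQ2 : 2 ≤ Module.finrank k (Coh.HH X (cokernel f) 0) := by
    have h3 := euler_add hS (finCoh k X hω) (finCoh k X hQ)
    dsimp only at h3
    rw [euler_eq_h0_sub_h1 k X hdim.le F, euler_eq_h0_sub_h1 k X hdim.le ω, euler_eq_h0 k hK.2,
      Module.finrank_zero_of_subsingleton (M := Coh.HH X F 1), hω1] at h3
    obtain ⟨M, hM, hLM⟩ := Groth.PicAux.exists_isInverseOf hL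
    have hM0 := finrank_HH_eq_twist htr (isCoh_of_isInvertible hM).1
      (Groth.PicAux.isInverseOf_symm hLM)
    have hO0 := finrank_HH_eq_twist htr (isCoh_of_isInvertible (isInvertible_structureModule X)).1
      (L := Coh.structureModule X) ⟨SecTwist.unitorR _⟩
    rw [(hEquiv k (SecTwist.unitorR ω) 0).finrank_eq] at hO0
    have hdM : Curv2.deg k X M 1 = -Curv2.deg k X L 1 := by
      have h := deg_tensor_invertible k hdim.le hL hM
      obtain ⟨i⟩ := hLM
      rw [show Curv2.deg k X (CohB1.tensorMod L M) 1 = Curv2.deg k X (Coh.structureModule X) 1 from by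
        unfold Curv2.deg; rw [euler_congr k i], deg_structure] at h
      omega
    have h4 := euler_eq_h0_sub_h1 k X hdim.le M
    have h5 := euler_eq_h0_sub_h1 k X hdim.le (Coh.structureModule X)
    have h6 : Curv2.euler k X M = Curv2.deg k X M 1 + Curv2.euler k X (Coh.structureModule X) := by
      simp only [Curv2.deg]
      ring
    have hFM : Module.finrank k (Coh.HH X F 0) = Module.finrank k (Coh.HH X M 1) := hM0.symm
    omega
  have hep := exists_epi_comp hdim.le htr hinj hF hQ f g w hS.exact hK.2 hQ2 hno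
  -- Nakayama at `x`
  intro hsup
  refine hsup ?_
  obtain ⟨U, s, hxU, hs⟩ := (Groth.PicAux.isInvertible_iff_exists_gen L).1 hL x
  obtain ⟨r, hr⟩ := hs.exists_coeff le_rfl (Groth.PicAux.res L le_top t)
  rw [Groth.PicAux.res_self] at hr
  have hrm : ¬ IsUnit (X.presheaf.germ U x hxU r) := fun hu => hxt
    ((gloc_inf_eq_basicOpen hs hr).ge ((Scheme.mem_basicOpen X r x hxU).2 hu)).1
  haveI := QCohMod.finite_stalk (cokernel p) hC.2 x
  let m := IsLocalRing.maximalIdeal (X.presheaf.stalk x)
  have hle : (⊤ : Submodule (X.presheaf.stalk x) ((cokernel p).presheaf.stalk x)) ≤ m • ⊤ := by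
    intro v _
    haveI : Epi (f ≫ cokernel.π p) := by
      rw [Preadditive.epi_iff_cancel_zero]
      intro P z hz
      rw [Category.assoc] at hz
      have hw : p ≫ (cokernel.π p ≫ z) = 0 := by rw [← Category.assoc, cokernel.condition, zero_comp]
      rw [← cokernel.π_desc f (cokernel.π p ≫ z) hz, ← Category.assoc] at hw
      haveI := hep
      have hy : cokernel.desc f (cokernel.π p ≫ z) hz = 0 := (cancel_epi (p ≫ g)).1 (by
        rw [comp_zero]; exact hw)
      rw [← cancel_epi (cokernel.π p), comp_zero, ← cokernel.π_desc f (cokernel.π p ≫ z) hz, hy,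
        comp_zero]
    obtain ⟨a, rfl⟩ := (QCohMod.epi_iff_stalk (f ≫ cokernel.π p)).1 inferInstance x v
    obtain ⟨W, hxW, b, rfl⟩ := QCohMod.exists_germ ω x a
    let V := W ⊓ U
    have hxV : x ∈ V := ⟨hxW, hxU⟩
    rw [← QCohMod.germ_res ω (inf_le_left : V ≤ W) x hxV b]
    have e2 : (f ≫ cokernel.π p).app V (QCohMod.res ω (inf_le_left : V ≤ W) b) =
        Groth.PicAux.resX X (inf_le_right : V ≤ U) r •
          (cokernel.π p).app V (tmulSec (QCohMod.res ω (inf_le_left : V ≤ W) b)
            (Groth.PicAux.res L (inf_le_right : V ≤ U) s)) := by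
      rw [← Scheme.Modules.Hom.app_smul, ← Groth.PicAux.tmulSec_smul_right,
        ← Groth.PicAux.res_smul, ← hr, Groth.PicAux.res_res, ← hf]
      rfl
    refine (congrArg (· ∈ m • (⊤ : Submodule (X.presheaf.stalk x) _)) ?_).mpr
      (Submodule.smul_mem_smul (r := X.presheaf.germ V x hxV (Groth.PicAux.resX X (inf_le_right : V ≤ U) r))
        (n := QCohMod.germ (cokernel p) x hxV ((cokernel.π p).app V
          (tmulSec (QCohMod.res ω (inf_le_left : V ≤ W) b)
            (Groth.PicAux.res L (inf_le_right : V ≤ U) s)))) ?_ trivial)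
    · refine (QCohMod.stalk_map_germ (f ≫ cokernel.π p) x hxV _).trans ?_
      rw [e2, QCohMod.germ_smul]
    · refine (IsLocalRing.mem_maximalIdeal _).2 fun hu => hrm ?_
      exact (congrArg IsUnit (TopCat.Presheaf.germ_res_apply X.presheaf
        (homOfLE (inf_le_right : V ≤ U)) x hxV r)).mp hu
  have hbot := Submodule.eq_bot_of_le_smul_of_le_jacobson_bot m
    (⊤ : Submodule (X.presheaf.stalk x) ((cokernel p).presheaf.stalk x)) Module.Finite.fg_top hle
    (IsLocalRing.maximalIdeal_le_jacobson ⊥)
  exact ⟨fun a b => (Submodule.eq_bot_iff _).1 hbot a trivial |>.trans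
    ((Submodule.eq_bot_iff _).1 hbot b trivial).symm⟩

end Groth.Duality.ShriekBridge
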